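import Cfsg.Agent.Lib.FourPrimes.Basic

/-!
Action lemmas for the four-prime criterion.
-/

set_option autoImplicit false

namespace CfsgLib.FourPrimes

open Cfsg Subgroup
open scoped IsMulCommutative commutatorElement

universe u
variable {G : Type u} [Group G]

theorem prod_range_shift {M : Type*} [CommGroup M] (f : ℕ → M) (m : ℕ) (h : f m = f 0) :
    ∏ i ∈ Finset.range m, f (i + 1) = ∏ i ∈ Finset.range m, f i := by
  have h1 := Finset.prod_range_succ' f m
  rw [Finset.prod_range_succ, h] at h1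
  exact (mul_right_cancel h1).symm

/-- A group `U` normalised by a semiregular cyclic group without fixed points on an abelian group `V`
acts trivially on `V`. -/
theorem trivial_of_semiregular {Γ V : Type*} [Group Γ] [Finite Γ] [CommGroup V] [Finite V]
    (τ : Γ →* MulAut V) (U : Subgroup Γ) (g : Γ) (hgU : g ∈ Subgroup.normalizer (U : Set Γ))
    (hcop : (Nat.card U).Coprime (Nat.card V))
    (hfpf : ∀ n : ℕ, g ^ n ≠ 1 → ∀ u ∈ U, Commute (g ^ n) u → u = 1)
    (hV : ∀ v : V, τ g v = v → v = 1) : ∀ u ∈ U, ∀ v : V, τ u v = v := by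
  classical
  intro u₀ hu₀ v
  have := Fintype.ofFinite U
  have hm : 0 < orderOf g := orderOf_pos g
  have hN : ∀ w : V, ∏ i ∈ Finset.range (orderOf g), τ (g ^ i) w = 1 := fun w => hV _ (by
    rw [map_prod]
    refine (Finset.prod_congr rfl fun i _ => ?_).trans
      (prod_range_shift (fun i => τ (g ^ i) w) (orderOf g) (by simp [pow_orderOf_eq_one]))
    show τ g (τ (g ^ i) w) = τ (g ^ (i + 1)) w
    rw [pow_succ', map_mul, MulAut.mul_apply])
  have hconj : ∀ u : U, ∏ i ∈ Finset.range (orderOf g), τ ((u : Γ) * g ^ i * (u : Γ)⁻¹) v = 1 := fun u => by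
    have h := congrArg (τ (u : Γ)) (hN (τ (u : Γ)⁻¹ v))
    rw [map_prod, map_one] at h
    refine (Finset.prod_congr rfl fun i _ => ?_).trans h
    rw [map_mul, map_mul, MulAut.mul_apply, MulAut.mul_apply]
  have hsum : ∀ i ∈ Finset.range (orderOf g), τ u₀ (∏ u : U, τ ((u : Γ) * g ^ i * (u : Γ)⁻¹) v) =
      if i = 0 then τ u₀ (v ^ Fintype.card U) else ∏ u : U, τ ((u : Γ) * g ^ i * (u : Γ)⁻¹) v := by
    intro i hi
    split_ifs with h0
    · subst h0
      congr 1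
      simp [Finset.card_univ]
    have hc : g ^ i ≠ 1 := fun e => h0 (by
      have := Nat.eq_zero_of_dvd_of_lt (orderOf_dvd_of_pow_eq_one e) (Finset.mem_range.mp hi)
      exact this)
    have hgi : g ^ i ∈ Subgroup.normalizer (U : Set Γ) := pow_mem hgU i
    let f : U → U := fun u => ⟨(u : Γ) * (g ^ i * (u : Γ)⁻¹ * (g ^ i)⁻¹),
      U.mul_mem u.2 (conj_mem_of_normalizer hgi (U.inv_mem u.2))⟩
    have hf : Function.Bijective f := Finite.injective_iff_bijective.mp fun a b hab => by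
      have h1 : (a : Γ) * (g ^ i * (a : Γ)⁻¹ * (g ^ i)⁻¹) = (b : Γ) * (g ^ i * (b : Γ)⁻¹ * (g ^ i)⁻¹) :=
        congrArg Subtype.val hab
      have h3 : (a : Γ) * g ^ i * (a : Γ)⁻¹ = (b : Γ) * g ^ i * (b : Γ)⁻¹ := by
        have h1' := congrArg (fun z => z * g ^ i) h1
        simpa [mul_assoc] using h1'
      have h2 := hfpf i hc ((b : Γ)⁻¹ * a) (U.mul_mem (U.inv_mem b.2) a.2) (by
        rw [commute_iff_eq]
        have h4 := congrArg (fun z => (b : Γ)⁻¹ * z * (a : Γ)) h3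
        simpa [mul_assoc] using h4.symm)
      exact Subtype.ext (inv_mul_eq_one.mp h2).symm
    have hrw : ∏ u : U, τ ((u : Γ) * g ^ i * (u : Γ)⁻¹) v = ∏ u : U, τ (u : Γ) (τ (g ^ i) v) := by
      rw [← Function.Bijective.prod_comp hf (fun u => τ (u : Γ) (τ (g ^ i) v))]
      refine Finset.prod_congr rfl fun u _ => ?_
      rw [← MulAut.mul_apply, ← map_mul]
      refine DFunLike.congr_fun (congrArg τ ?_) v
      show (u : Γ) * g ^ i * (u : Γ)⁻¹ = (u : Γ) * (g ^ i * (u : Γ)⁻¹ * (g ^ i)⁻¹) * g ^ i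
      group
    rw [hrw, map_prod]
    refine Fintype.prod_equiv (Equiv.mulLeft (⟨u₀, hu₀⟩ : U)) _ _ fun u => ?_
    show τ u₀ (τ (u : Γ) (τ (g ^ i) v)) = τ (u₀ * (u : Γ)) (τ (g ^ i) v)
    rw [map_mul τ u₀, MulAut.mul_apply]
  have hall : ∏ i ∈ Finset.range (orderOf g), ∏ u : U, τ ((u : Γ) * g ^ i * (u : Γ)⁻¹) v = 1 := by
    rw [Finset.prod_comm]; exact Finset.prod_eq_one fun u _ => hconj u
  have hall' := congrArg (τ u₀) hall
  rw [map_prod, map_one, Finset.prod_congr rfl hsum] at hall'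
  have h0 : ∏ u : U, τ ((u : Γ) * g ^ 0 * (u : Γ)⁻¹) v = v ^ Fintype.card U := by
    simp [Finset.card_univ]
  obtain ⟨m, hm'⟩ : ∃ m, orderOf g = m + 1 := ⟨orderOf g - 1, by omega⟩
  rw [hm', Finset.prod_range_succ'] at hall hall'
  simp only [Nat.succ_ne_zero, if_false, if_true] at hall'
  rw [h0] at hall
  have hfix : τ u₀ (v ^ Fintype.card U) = v ^ Fintype.card U := mul_left_cancel (hall'.trans hall.symm)
  rw [map_pow, ← Nat.card_eq_fintype_card] at hfix
  have h1 : (τ u₀ v * v⁻¹) ^ Nat.card U = 1 := by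
    rw [mul_pow, hfix, inv_pow, mul_inv_cancel]
  exact mul_inv_eq_one.mp (orderOf_eq_one_iff.mp
    (Nat.eq_one_of_dvd_coprimes hcop (orderOf_dvd_of_pow_eq_one h1) (orderOf_dvd_natCard _)))

/-- The same for a homomorphism into a group with an abelian normal subgroup. -/
theorem trivial_of_semiregular' {Γ H : Type*} [Group Γ] [Finite Γ] [Group H] [Finite H] (π : Γ →* H)
    (V : Subgroup H) (hVn : V.Normal) (hVc : ∀ a ∈ V, ∀ b ∈ V, Commute a b) (U : Subgroup Γ) (g : Γ)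
    (hgU : g ∈ Subgroup.normalizer (U : Set Γ)) (hcop : (Nat.card U).Coprime (Nat.card V))
    (hfpf : ∀ n : ℕ, g ^ n ≠ 1 → ∀ u ∈ U, Commute (g ^ n) u → u = 1)
    (hV : ∀ v ∈ V, Commute (π g) v → v = 1) : ∀ u ∈ U, ∀ v ∈ V, Commute (π u) v := by
  have hc : IsMulCommutative V := ⟨⟨fun a b => Subtype.ext (hVc a a.2 b b.2).eq⟩⟩
  let τ : Γ →* MulAut V := (MulAut.conjNormal : H →* MulAut V).comp π
  have hτ : ∀ (x : Γ) (v : V), τ x v = v ↔ Commute (π x) (v : H) := fun x v => by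
    rw [commute_iff_conj_eq, Subtype.ext_iff]; rfl
  intro u hu v hv
  refine (hτ u ⟨v, hv⟩).mp (trivial_of_semiregular τ U g hgU hcop hfpf (fun w hw => ?_) u hu ⟨v, hv⟩)
  exact Subtype.ext (hV w w.2 ((hτ g w).mp hw))

/-- If `U ⋊ ⟨g⟩` is a Frobenius group acting coprimely on `R` and `g` has no fixed point on `R`, then `U`
centralises `R`. -/
theorem commute_of_semiregular [Finite G] {r : ℕ} [Fact r.Prime] {R U : Subgroup G} (hR : IsPGroup r R)
    {g : G} (hUR : U ≤ Subgroup.normalizer (R : Set G)) (hgR : g ∈ Subgroup.normalizer (R : Set G))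
    (hgU : g ∈ Subgroup.normalizer (U : Set G)) (hcop : (Nat.card U).Coprime (Nat.card R))
    (hgcop : (orderOf g).Coprime (Nat.card R))
    (hfpf : ∀ n : ℕ, g ^ n ≠ 1 → ∀ u ∈ U, Commute (g ^ n) u → u = 1)
    (hfix : ∀ x ∈ R, Commute g x → x = 1) : ∀ u ∈ U, ∀ x ∈ R, Commute u x := by
  classical
  set N := Subgroup.normalizer (R : Set G) with hN
  let R₀ : Subgroup N := R.subgroupOf N
  have hR₀ : R₀.Normal := by
    refine ⟨fun x hx y => ?_⟩
    show (y : G) * x * (y : G)⁻¹ ∈ R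
    exact conj_mem_of_normalizer y.2 hx
  let e₀ : R₀ ≃* R := Subgroup.subgroupOfEquivOfLe Subgroup.le_normalizer
  let Φ : Subgroup N := (frattini R₀).map R₀.subtype
  have hΦn : Φ.Normal := ⟨fun x hx y => by
    have h := (le_normalizer_map_characteristic (A := (⊤ : Subgroup N)) (K := R₀)
      (by rw [Subgroup.normalizer_eq_top]) (frattini R₀)).1 (Subgroup.mem_top y)
    exact conj_mem_of_normalizer h hx⟩
  let π := QuotientGroup.mk' Φ
  let V : Subgroup (N ⧸ Φ) := R₀.map π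
  have hR₀p : IsPGroup r R₀ := hR.of_equiv e₀.symm
  have hVn : V.Normal := hR₀.map π (QuotientGroup.mk'_surjective Φ)
  have hVc : ∀ a ∈ V, ∀ b ∈ V, Commute a b := by
    rintro _ ⟨a, ha, rfl⟩ _ ⟨b, hb, rfl⟩
    show π a * π b = π b * π a
    rw [← commutatorElement_eq_one_iff_mul_comm, ← map_commutatorElement, QuotientGroup.mk'_apply,
      QuotientGroup.eq_one_iff]
    exact ⟨⁅(⟨a, ha⟩ : R₀), ⟨b, hb⟩⁆, commutator_le_frattini_pGroup hR₀p
      (Subgroup.commutator_mem_commutator (Subgroup.mem_top _) (Subgroup.mem_top _)), rfl⟩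
  let U₀ : Subgroup N := U.subgroupOf N
  let g₀ : N := ⟨g, hgR⟩
  have hΦR : Φ ≤ R₀ := Subgroup.map_subtype_le _
  have hcard₀ : Nat.card R₀ = Nat.card R := Nat.card_congr e₀.toEquiv
  have hUc : Nat.card U₀ = Nat.card U := Nat.card_congr (Subgroup.subgroupOfEquivOfLe hUR).toEquiv
  have key := trivial_of_semiregular' π V hVn hVc U₀ g₀ (mem_normalizer_of_conj fun x (hx : (x : G) ∈ U) => show g * (x : G) * g⁻¹ ∈ U from conj_mem_of_normalizer hgU hx)
    (by
      rw [hUc]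
      exact hcop.coprime_dvd_right (by rw [← hcard₀]; exact Subgroup.card_map_dvd _ π))
    (fun n hn u hu hc => Subtype.ext (hfpf n (fun e => hn (Subtype.ext (by simpa using e))) u hu
      (by simpa using hc.map N.subtype)))
    (fun v hv hvc => by
      obtain ⟨x, hx, rfl⟩ := hv
      have hbase : π (g₀ * x * g₀⁻¹) = π x := by
        rw [map_mul, map_mul, map_inv]; exact commute_iff_conj_eq.mp hvc
      have hz : ∀ a ∈ Subgroup.zpowers g₀, a * x * a⁻¹ * x⁻¹ ∈ Φ := by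
        intro a ha
        have hmem : Subgroup.zpowers g₀ ≤ (Subgroup.centralizer {π x}).comap π := by
          refine Subgroup.zpowers_le.mpr (Subgroup.mem_centralizer_singleton_iff.mpr ?_)
          rw [map_mul, map_mul, map_inv] at hbase
          exact mul_inv_eq_iff_eq_mul.mp hbase
        have h1 := Subgroup.mem_centralizer_singleton_iff.mp (hmem ha)
        rw [← QuotientGroup.eq_one_iff]
        show π (a * x * a⁻¹ * x⁻¹) = 1
        rw [map_mul, map_mul, map_mul, map_inv, map_inv, h1, mul_inv_cancel_right, mul_inv_cancel]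
      obtain ⟨c, ⟨hcR, hcg⟩, hcx⟩ := coprime_fixed_quotient (A := Subgroup.zpowers g₀) (K := R₀) (N := Φ)
        (by rw [Subgroup.normalizer_eq_top]; exact le_top)
        (by rw [Nat.card_zpowers, hcard₀, ← Subgroup.orderOf_coe]; exact hgcop) (Or.inl inferInstance) hΦR
        (by rw [Subgroup.normalizer_eq_top]; exact le_top) (by rw [Subgroup.normalizer_eq_top]; exact le_top)
        hx hz
      have hc1 : c = 1 := Subtype.ext (hfix c hcR ((show Commute g₀ c from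
        hcg g₀ (Subgroup.mem_zpowers g₀)).map N.subtype))
      rw [hc1, mul_one] at hcx
      show π x = 1
      rw [QuotientGroup.mk'_apply, QuotientGroup.eq_one_iff]
      exact inv_mem_iff.mp hcx)
  have htriv : U₀ ≤ Subgroup.centralizer (R₀ : Set N) := by
    refine centralize_of_trivial_mod_frattini (by rw [Subgroup.normalizer_eq_top]; exact le_top) ?_ ?_
    · rw [hUc]
      exact hcop.coprime_dvd_right (by rw [← hcard₀]; exact Subgroup.card_subgroup_dvd_card (frattini R₀))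
    · intro a ha k hk
      have h := commute_iff_conj_eq.mp (key a ha (π k) ⟨k, hk, rfl⟩)
      show a * k * a⁻¹ * k⁻¹ ∈ Φ
      rw [← QuotientGroup.eq_one_iff]
      show π (a * k * a⁻¹ * k⁻¹) = 1
      rw [map_mul, map_mul, map_mul, map_inv, map_inv, h, mul_inv_cancel]
  intro u hu x hx
  have h := htriv (show (⟨u, hUR hu⟩ : N) ∈ U₀ from hu) ⟨x, Subgroup.le_normalizer hx⟩ hx
  exact (congrArg Subtype.val h).symm

/-- An element of prime-power order `p^n` acting non-trivially on a group of prime order `q`. -/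
theorem lt_of_moves {p q n : ℕ} (hp : p.Prime) (hq : q.Prime) {g x : G} (hx : orderOf x = q)
    (hg : g * x * g⁻¹ ∈ Subgroup.zpowers x) (hgp : g ^ p ^ n = 1) (hne : ¬ Commute g x) : p < q := by
  have := Fact.mk hq
  have hxf : IsOfFinOrder x := orderOf_pos_iff.mp (hx ▸ hq.pos)
  obtain ⟨k, hk⟩ := hxf.mem_powers_iff_mem_zpowers.mpr hg
  have hk' : g * x * g⁻¹ = x ^ k := hk.symm
  have hit : ∀ m : ℕ, g ^ m * x * (g ^ m)⁻¹ = x ^ k ^ m := by
    intro m
    induction m with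
    | zero => simp
    | succ m ih =>
      calc g ^ (m + 1) * x * (g ^ (m + 1))⁻¹ = g * (g ^ m * x * (g ^ m)⁻¹) * g⁻¹ := by rw [pow_succ']; group
        _ = g * x ^ k ^ m * g⁻¹ := by rw [ih]
        _ = (g * x * g⁻¹) ^ k ^ m := conj_pow.symm
        _ = x ^ k ^ (m + 1) := by rw [hk', ← pow_mul, pow_succ' k m]
  have h1 := hit (p ^ n)
  rw [hgp, one_mul, inv_one, mul_one] at h1
  have hone : ((k : ZMod q)) ^ p ^ n = 1 := by
    have h2 : x ^ 1 = x ^ k ^ p ^ n := by rw [pow_one]; exact h1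
    rw [pow_eq_pow_iff_modEq, hx] at h2
    have h3 := (ZMod.natCast_eq_natCast_iff _ _ _).mpr h2.symm
    simpa using h3
  have hk1 : (k : ZMod q) ≠ 1 := by
    intro e
    refine hne (commute_iff_conj_eq.mpr ?_)
    rw [hk']
    conv_rhs => rw [← pow_one x]
    rw [pow_eq_pow_iff_modEq, hx]
    exact (ZMod.natCast_eq_natCast_iff _ _ _).mp (by simpa using e)
  obtain ⟨j, hj, ej⟩ := (Nat.dvd_prime_pow hp).mp (orderOf_dvd_of_pow_eq_one hone)
  have hpd : p ∣ orderOf (k : ZMod q) := ej ▸ dvd_pow_self p fun e => by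
    rw [e, pow_zero, orderOf_eq_one_iff] at ej
    exact hk1 ej
  have hk0 : (k : ZMod q) ≠ 0 := by
    intro e
    rw [e, zero_pow (pow_pos hp.pos n).ne'] at hone
    exact zero_ne_one hone
  have h5 : p ≤ q - 1 := Nat.le_of_dvd (by have := hq.two_le; omega) (hpd.trans (ZMod.orderOf_dvd_card_sub_one hk0))
  have := hq.two_le
  omega

/-- A normal subgroup of order `p` of a `p`-group is central. -/
theorem commute_of_normal_prime {p : ℕ} (hp : p.Prime) {P : Subgroup G} (hP : IsPGroup p P) {g x : G}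
    (hg : g ∈ P) (hx : orderOf x = p) (hn : g * x * g⁻¹ ∈ Subgroup.zpowers x) : Commute g x := by
  by_contra hne
  obtain ⟨n, hn'⟩ := hP ⟨g, hg⟩
  exact lt_irrefl p (lt_of_moves hp hp hx hn (congrArg Subtype.val hn') hne)

/-- The elements of order dividing `p` in the centre of `X`. -/
def omZ (p : ℕ) (X : Subgroup G) : Subgroup G where
  carrier := {x | x ∈ X ∧ x ^ p = 1 ∧ ∀ y ∈ X, Commute x y}
  one_mem' := ⟨one_mem _, one_pow _, fun y _ => Commute.one_left y⟩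
  mul_mem' := fun {a b} ha hb => ⟨mul_mem ha.1 hb.1, by
    rw [(ha.2.2 b hb.1).mul_pow, ha.2.1, hb.2.1, one_mul], fun y hy => (ha.2.2 y hy).mul_left (hb.2.2 y hy)⟩
  inv_mem' := fun {a} ha => ⟨inv_mem ha.1, by rw [inv_pow, ha.2.1, inv_one], fun y hy => (ha.2.2 y hy).inv_left⟩

theorem mem_omZ {p : ℕ} {X : Subgroup G} {x : G} :
    x ∈ omZ p X ↔ x ∈ X ∧ x ^ p = 1 ∧ ∀ y ∈ X, Commute x y := Iff.rfl

theorem omZ_normalizer [Finite G] {p : ℕ} {X : Subgroup G} {g : G}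
    (hg : g ∈ Subgroup.normalizer (X : Set G)) : g ∈ Subgroup.normalizer (omZ p X : Set G) := by
  refine mem_normalizer_of_conj fun x hx => ⟨conj_mem_of_normalizer hg hx.1, ?_, fun y hy => ?_⟩
  · rw [conj_pow, hx.2.1, mul_one, mul_inv_cancel]
  · have h := commute_conj (g := g) (hx.2.2 _ (conj_mem_of_normalizer (inv_mem hg) hy))
    simpa [mul_assoc] using h

theorem exists_omZ [Finite G] {p : ℕ} (hp : p.Prime) {X : Subgroup G} (hX : IsPGroup p X) (hne : X ≠ ⊥) :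
    ∃ z ∈ omZ p X, orderOf z = p := by
  have := Fact.mk hp
  have : Nontrivial X := (Subgroup.nontrivial_iff_ne_bot X).mpr hne
  have := hX.center_nontrivial
  obtain ⟨c, hc⟩ := exists_ne (1 : Subgroup.center X)
  have hc1 : ((c : X) : G) ≠ 1 := fun e => hc (Subtype.ext (Subtype.ext e))
  obtain ⟨n, hn⟩ := (IsPEl.of_mem hX (c : X).2 hc1).exists_orderOf hp
  refine ⟨((c : X) : G) ^ n, ⟨pow_mem (c : X).2 n, by rw [← hn, pow_orderOf_eq_one], fun y hy => ?_⟩, hn⟩
  exact Commute.pow_left (congrArg Subtype.val (Subgroup.mem_center_iff.mp c.2 ⟨y, hy⟩)).symm n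

/-- Either `X` has a unique subgroup of order `p`, or it contains an elementary group of order `p²`. -/
theorem unique_or_isE [Finite G] {p : ℕ} (hp : p.Prime) {X : Subgroup G} (hX : IsPGroup p X) (hne : X ≠ ⊥) :
    (∃ E : Subgroup G, E ≤ X ∧ IsE p E) ∨
      ∃ z ∈ X, orderOf z = p ∧ ∀ x ∈ X, x ^ p = 1 → x ∈ Subgroup.zpowers z := by
  obtain ⟨z, hz, hzo⟩ := exists_omZ hp hX hne
  by_cases h : ∀ x ∈ X, x ^ p = 1 → x ∈ Subgroup.zpowers z
  · exact Or.inr ⟨z, hz.1, hzo, h⟩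
  · push Not at h
    obtain ⟨x, hx, hxp, hxz⟩ := h
    obtain ⟨E, hE, -, -, hmin⟩ := exists_isE hp hzo hxp (hz.2.2 x hx) hxz
    exact Or.inl ⟨E, hmin X hz.1 hx, hE⟩

/-- In a `p`-group whose central elements of order `p` lie in `⟨z⟩`, a further element of order `p` yields
one, `y`, conjugate to `y z`. -/
theorem exists_conj_mul [Finite G] {p : ℕ} (hp : p.Prime) {P : Subgroup G} (hP : IsPGroup p P) {z : G}
    (hzP : z ∈ P) (hz : orderOf z = p) (hzc : ∀ g ∈ P, Commute g z)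
    (huniq : ∀ c ∈ P, c ^ p = 1 → (∀ g ∈ P, Commute g c) → c ∈ Subgroup.zpowers z)
    (hex : ∃ b ∈ P, b ^ p = 1 ∧ b ∉ Subgroup.zpowers z) :
    ∃ y ∈ P, orderOf y = p ∧ y ∉ Subgroup.zpowers z ∧
      ∃ g ∈ P, ∃ k : G, k ∈ Subgroup.zpowers z ∧ k ≠ 1 ∧ g * y * g⁻¹ = y * k := by
  classical
  have := Fact.mk hp
  obtain ⟨b₀, hb₀⟩ := hex
  obtain ⟨b, ⟨hbP, hbp, hbz⟩, hbmax⟩ := (Set.toFinite {b : G | b ∈ P ∧ b ^ p = 1 ∧ b ∉ Subgroup.zpowers z}).exists_maximalFor
    (fun b => Nat.card (P ⊓ Subgroup.centralizer {b} : Subgroup G)) _ ⟨b₀, hb₀⟩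
  set C := P ⊓ Subgroup.centralizer {b} with hC
  have hCP : C < P := lt_of_le_of_ne inf_le_left fun e => hbz (huniq b hbP hbp fun g hg => by
    rw [← e] at hg
    exact (mem_fix.mp hg).2.symm)
  have : Group.IsNilpotent P := hP.isNilpotent
  have hlt : C.subgroupOf P < ⊤ := lt_of_le_of_ne le_top fun e =>
    hCP.not_ge (Subgroup.subgroupOf_eq_top.mp e)
  set N := Subgroup.normalizer (C.subgroupOf P : Set P) with hN
  have hCN : C.subgroupOf P < N := Group.normalizerCondition_of_isNilpotent _ hlt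
  set N' := N.map P.subtype with hN'
  have hN'P : N' ≤ P := Subgroup.map_subtype_le _
  have hN'C : ∀ g ∈ N', g ∈ Subgroup.normalizer (C : Set G) := by
    rintro _ ⟨g, hg, rfl⟩
    refine mem_normalizer_of_conj fun x hx => ?_
    exact conj_mem_of_normalizer (H := C.subgroupOf P) hg (x := ⟨x, hCP.le hx⟩) hx
  have hCN' : C < N' := by
    have h := Subgroup.map_lt_map_iff_of_injective (f := P.subtype) P.subtype_injective |>.mpr hCN
    rwa [Subgroup.map_subgroupOf_eq_of_le hCP.le] at h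
  -- elements of order dividing `p` in the centre of `C`
  set B := omZ p C with hB
  have hbB : b ∈ B := ⟨mem_fix.mpr ⟨hbP, Commute.refl b⟩, hbp, fun y hy => (mem_fix.mp hy).2⟩
  have hzC : z ∈ C := mem_fix.mpr ⟨hzP, hzc b hbP⟩
  have hzB : z ∈ B := ⟨hzC, by rw [← hz, pow_orderOf_eq_one], fun y hy => (hzc y (hCP.le hy)).symm⟩
  have hfixB : ∀ w ∈ B, (∀ g ∈ N', Commute g w) → w ∈ Subgroup.zpowers z := by
    intro w hw hwN
    by_contra hwz
    have hle : N' ≤ P ⊓ Subgroup.centralizer {w} := fun g hg => mem_fix.mpr ⟨hN'P hg, (hwN g hg).symm⟩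
    have h1 := Nat.le_of_dvd Nat.card_pos (Subgroup.card_dvd_of_le hle)
    have h2 : Nat.card C < Nat.card N' := by
      refine lt_of_le_of_ne (Nat.le_of_dvd Nat.card_pos (Subgroup.card_dvd_of_le hCN'.le)) fun e => ?_
      exact hCN'.ne (Subgroup.eq_of_le_of_card_ge hCN'.le e.ge)
    have h3 := hbmax (j := w) ⟨hCP.le hw.1, hw.2.1, hwz⟩
    simp only [] at h3
    rw [← hC] at h3
    have := h3 (by omega)
    omega
  -- a fixed point of `N'` on `B` modulo `z`
  have hNp : IsPGroup p N' := hP.to_le hN'P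
  have : Group.IsNilpotent N' := hNp.isNilpotent
  let Z : Subgroup N' := (Subgroup.zpowers z).subgroupOf N'
  have hZc : ∀ a ∈ Z, ∀ g : N', g * a = a * g := fun a ha g => Subtype.ext
    ((commute_of_mem_zpowers (hzc g (hN'P g.2)).symm ha).eq.symm)
  have hZn : Z.Normal := ⟨fun a ha g => by rwa [hZc a ha g, mul_inv_cancel_right]⟩
  have hBN : B ≤ N' := fun x hx => hCN'.le hx.1
  let B₀ : Subgroup N' := B.subgroupOf N'
  have hB₀ : B₀.Normal := ⟨fun x (hx : (x : G) ∈ B) g => show (g : G) * x * (g : G)⁻¹ ∈ B from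
    conj_mem_of_normalizer (omZ_normalizer (p := p) (hN'C g g.2)) hx⟩
  let π := QuotientGroup.mk' Z
  have := hB₀.map π (QuotientGroup.mk'_surjective Z)
  have hne : B₀.map π ≠ ⊥ := by
    intro e
    have h : π ⟨b, hBN hbB⟩ ∈ B₀.map π := ⟨_, hbB, rfl⟩
    rw [e, Subgroup.mem_bot, QuotientGroup.mk'_apply, QuotientGroup.eq_one_iff] at h
    exact hbz h
  have := Group.nilpotent_quotient_of_nilpotent Z
  obtain ⟨q, hq1⟩ := Subgroup.ne_bot_iff_exists_ne_one.mp
    (inf_center_ne_bot_of_nilpotent (N := B₀.map π) hne)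
  obtain ⟨q, hq⟩ := q
  obtain ⟨⟨y₀, hy₀, rfl⟩, hqc⟩ := hq
  have hyB : (y₀ : G) ∈ B := hy₀
  have hyz : (y₀ : G) ∉ Subgroup.zpowers z := fun h => hq1 (Subtype.ext ((QuotientGroup.eq_one_iff y₀).mpr h))
  obtain ⟨g, hg, hgy⟩ : ∃ g ∈ N', ¬ Commute g (y₀ : G) := by
    by_contra hno
    push Not at hno
    exact hyz (hfixB _ hyB hno)
  refine ⟨y₀, hN'P y₀.2, orderOf_eq_prime hyB.2.1 fun e => hyz (e ▸ one_mem _), hyz, g, hN'P hg,
    (y₀ : G)⁻¹ * (g * y₀ * g⁻¹), ?_, fun e => hgy (commute_iff_conj_eq.mpr (inv_mul_eq_one.mp e).symm), by group⟩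
  have h := Subgroup.mem_center_iff.mp hqc (π ⟨g, hg⟩)
  have h1 : y₀⁻¹ * (⟨g, hg⟩ * y₀ * ⟨g, hg⟩⁻¹) ∈ Z := by
    rw [← QuotientGroup.eq_one_iff]
    show π (y₀⁻¹ * (⟨g, hg⟩ * y₀ * ⟨g, hg⟩⁻¹)) = 1
    rw [map_mul, map_mul, map_mul, map_inv, map_inv, h, mul_inv_cancel_right, inv_mul_cancel]
  exact h1

/-- The commutators of `M` with `w`. -/
def commSub (M : Subgroup G) (w : G) (hM : ∀ a ∈ M, ∀ b ∈ M, Commute a b)
    (hw : w ∈ Subgroup.normalizer (M : Set G)) : Subgroup G where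
  carrier := {x | ∃ m ∈ M, x = m⁻¹ * (w * m * w⁻¹)}
  one_mem' := ⟨1, one_mem _, by group⟩
  mul_mem' := by
    rintro _ _ ⟨a, ha, rfl⟩ ⟨b, hb, rfl⟩
    refine ⟨a * b, mul_mem ha hb, ?_⟩
    have h1 := hM b⁻¹ (inv_mem hb) _ (mul_mem (inv_mem ha) (conj_mem_of_normalizer hw ha))
    calc (a⁻¹ * (w * a * w⁻¹)) * (b⁻¹ * (w * b * w⁻¹)) = ((a⁻¹ * (w * a * w⁻¹)) * b⁻¹) * (w * b * w⁻¹) := by group
      _ = (b⁻¹ * (a⁻¹ * (w * a * w⁻¹))) * (w * b * w⁻¹) := by rw [h1.eq]
      _ = (a * b)⁻¹ * (w * (a * b) * w⁻¹) := by group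
  inv_mem' := by
    rintro _ ⟨a, ha, rfl⟩
    refine ⟨a⁻¹, inv_mem ha, ?_⟩
    rw [mul_inv_rev, inv_inv]
    have h1 := hM _ (inv_mem (conj_mem_of_normalizer hw ha)) a ha
    calc (w * a * w⁻¹)⁻¹ * a = a * (w * a * w⁻¹)⁻¹ := h1.eq
      _ = a * (w * a⁻¹ * w⁻¹) := by group

theorem commSub_le {M : Subgroup G} {w : G} {hM : ∀ a ∈ M, ∀ b ∈ M, Commute a b}
    {hw : w ∈ Subgroup.normalizer (M : Set G)} : commSub M w hM hw ≤ M := by
  rintro _ ⟨m, hm, rfl⟩
  exact mul_mem (inv_mem hm) (conj_mem_of_normalizer hw hm)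

theorem commSub_normalizer [Finite G] {M : Subgroup G} {w g : G} {hM : ∀ a ∈ M, ∀ b ∈ M, Commute a b}
    {hw : w ∈ Subgroup.normalizer (M : Set G)} (hg : g ∈ Subgroup.normalizer (M : Set G)) (hgw : Commute g w) :
    g ∈ Subgroup.normalizer (commSub M w hM hw : Set G) := by
  refine mem_normalizer_of_conj ?_
  rintro _ ⟨m, hm, rfl⟩
  refine ⟨g * m * g⁻¹, conj_mem_of_normalizer hg hm, ?_⟩
  calc g * (m⁻¹ * (w * m * w⁻¹)) * g⁻¹ = (g * m⁻¹ * g⁻¹) * ((g * w) * m * (g * w)⁻¹) := by group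
    _ = (g * m⁻¹ * g⁻¹) * ((w * g) * m * (w * g)⁻¹) := by rw [hgw.eq]
    _ = (g * m * g⁻¹)⁻¹ * (w * (g * m * g⁻¹) * w⁻¹) := by group

/-- The commutators with `w` contain no fixed point of `w`. -/
theorem commSub_fpf [Finite G] {M : Subgroup G} {w : G} {hM : ∀ a ∈ M, ∀ b ∈ M, Commute a b}
    {hw : w ∈ Subgroup.normalizer (M : Set G)} (hcop : (orderOf w).Coprime (Nat.card M)) {x : G}
    (hx : x ∈ commSub M w hM hw) (hc : Commute w x) : x = 1 := by
  have hxM := commSub_le hx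
  obtain ⟨m, hm, rfl⟩ := hx
  have hit : ∀ n : ℕ, w ^ n * m * (w ^ n)⁻¹ = m * (m⁻¹ * (w * m * w⁻¹)) ^ n := by
    intro n
    induction n with
    | zero => simp
    | succ n ih =>
      calc w ^ (n + 1) * m * (w ^ (n + 1))⁻¹ = w * (w ^ n * m * (w ^ n)⁻¹) * w⁻¹ := by rw [pow_succ']; group
        _ = w * (m * (m⁻¹ * (w * m * w⁻¹)) ^ n) * w⁻¹ := by rw [ih]
        _ = (w * m * w⁻¹) * (w * (m⁻¹ * (w * m * w⁻¹)) ^ n * w⁻¹) := by group
        _ = (w * m * w⁻¹) * (m⁻¹ * (w * m * w⁻¹)) ^ n := by rw [commute_iff_conj_eq.mp (hc.pow_right n)]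
        _ = m * (m⁻¹ * (w * m * w⁻¹)) ^ (n + 1) := by rw [pow_succ', ← mul_assoc m, mul_inv_cancel_left]
  have h := hit (orderOf w)
  rw [pow_orderOf_eq_one, one_mul, inv_one, mul_one, left_eq_mul] at h
  exact orderOf_eq_one_iff.mp (Nat.eq_one_of_dvd_coprimes hcop (orderOf_dvd_of_pow_eq_one h)
    (Subgroup.orderOf_dvd_natCard M hxM))

theorem commSub_mem {M : Subgroup G} {w : G} {hM : ∀ a ∈ M, ∀ b ∈ M, Commute a b}
    {hw : w ∈ Subgroup.normalizer (M : Set G)} {m : G} (hm : m ∈ M) (hne : ¬ Commute w m) :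
    ∃ x ∈ commSub M w hM hw, x ≠ 1 :=
  ⟨_, ⟨m, hm, rfl⟩, fun e => hne (commute_iff_conj_eq.mpr (inv_mul_eq_one.mp e).symm)⟩

/-- A `p`-subgroup of `H` of index prime to `p`, containing every normalised `p`-subgroup. -/
theorem exists_sylowIn [Finite G] {p : ℕ} (hp : p.Prime) (H : Subgroup G) :
    ∃ P : Subgroup G, P ≤ H ∧ IsPGroup p P ∧ ¬ p ∣ P.relIndex H ∧ core p H ≤ P := by
  have := Fact.mk hp
  obtain ⟨P⟩ : Nonempty (Sylow p H) := inferInstance
  refine ⟨(P : Subgroup H).map H.subtype, Subgroup.map_subtype_le _, P.isPGroup'.map _, ?_,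
    Subgroup.map_mono (pCore_le_sylow P)⟩
  rw [Subgroup.relIndex, Subgroup.subgroupOf, Subgroup.comap_map_eq_self_of_injective H.subtype_injective]
  exact Sylow.not_dvd_index P

theorem not_dvd_index_of [Finite G] {p : ℕ} (hp : p.Prime) {P H : Subgroup G} (hPH : P ≤ H)
    (h1 : ¬ p ∣ P.relIndex H) (h2 : ¬ p ∣ H.index) : ¬ p ∣ P.index := fun h => by
  rw [← Subgroup.relIndex_mul_index hPH] at h
  exact (hp.dvd_mul.mp h).elim h1 h2

theorem core_normal [Finite G] {p : ℕ} {K L : Subgroup G} (hLK : L ≤ K) :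
    L ≤ Subgroup.normalizer (core p K : Set G) := hLK.trans (core_normalizer p K)

end CfsgLib.FourPrimes
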