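import Cfsg.Prelude.Def_Solvable
import Mathlib
import Cfsg.Agent.Lib.Basic
import Cfsg.Agent.Lib.Elementary
import Cfsg.Agent.Lib.CoprimeGen
import Cfsg.Agent.Lib.PSolvable

/-!
Tools for the four-prime criterion: prime-power elements, elementary groups of order `p²`, cores of
subgroups, and the action of a group with a fixed-point-free cyclic group of operators.
-/

set_option autoImplicit false

namespace CfsgLib.FourPrimes

open Cfsg Subgroup

universe u
variable {G : Type u} [Group G]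

/-- A non-trivial element of `p`-power order. -/
def IsPEl (p : ℕ) (a : G) : Prop := a ≠ 1 ∧ ∃ n : ℕ, a ^ p ^ n = 1

theorem IsPEl.of_orderOf {p : ℕ} (hp : p.Prime) {a : G} (h : orderOf a = p) : IsPEl p a :=
  ⟨fun e => hp.ne_one (by rw [← h, e, orderOf_one]), 1, by rw [pow_one, ← h, pow_orderOf_eq_one]⟩

theorem IsPEl.of_mem {p : ℕ} {P : Subgroup G} (hP : IsPGroup p P) {a : G} (ha : a ∈ P) (h1 : a ≠ 1) :
    IsPEl p a := by
  obtain ⟨n, hn⟩ := hP ⟨a, ha⟩
  exact ⟨h1, n, congrArg Subtype.val hn⟩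

theorem IsPEl.exists_orderOf {p : ℕ} (hp : p.Prime) {a : G} (h : IsPEl p a) :
    ∃ n : ℕ, orderOf (a ^ n) = p := by
  obtain ⟨h1, n, hn⟩ := h
  obtain ⟨k, hk, e⟩ := (Nat.dvd_prime_pow hp).mp (orderOf_dvd_of_pow_eq_one hn)
  refine ⟨orderOf a / p, orderOf_pow_orderOf_div (by rw [e]; exact (pow_pos hp.pos k).ne') ?_⟩
  rw [e]
  refine dvd_pow_self p fun k0 => h1 ?_
  rw [← orderOf_eq_one_iff, e, k0, pow_zero]

theorem IsPEl.ne_of {p q : ℕ} (hp : p.Prime) (hq : q.Prime) {a : G} (h : IsPEl p a) (h' : IsPEl q a) :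
    p = q := by
  by_contra hne
  obtain ⟨h1, n, hn⟩ := h
  obtain ⟨-, m, hm⟩ := h'
  exact h1 (orderOf_eq_one_iff.mp (Nat.eq_one_of_dvd_coprimes
    ((Nat.coprime_primes hp hq).mpr hne |>.pow n m) (orderOf_dvd_of_pow_eq_one hn) (orderOf_dvd_of_pow_eq_one hm)))

theorem coprime_card_of_isPGroup [Finite G] {p q : ℕ} (hp : p.Prime) (hq : q.Prime) (hne : p ≠ q)
    {X Y : Subgroup G} (hX : IsPGroup p X) (hY : IsPGroup q Y) : (Nat.card X).Coprime (Nat.card Y) := by
  have := Fact.mk hp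
  have := Fact.mk hq
  obtain ⟨n, hn⟩ := hX.exists_card_eq
  obtain ⟨m, hm⟩ := hY.exists_card_eq
  rw [hn, hm]
  exact ((Nat.coprime_primes hp hq).mpr hne).pow n m

theorem not_dvd_card_of_isPGroup [Finite G] {p q : ℕ} (hp : p.Prime) (hq : q.Prime) (hne : p ≠ q)
    {X : Subgroup G} (hX : IsPGroup q X) : ¬ p ∣ Nat.card X := by
  have := Fact.mk hq
  obtain ⟨n, hn⟩ := hX.exists_card_eq
  rw [hn]
  exact fun h => hne ((Nat.prime_dvd_prime_iff_eq hp hq).mp (hp.dvd_of_dvd_pow h))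

theorem commute_of_mem_zpowers {a b x : G} (h : Commute a x) (hb : b ∈ Subgroup.zpowers a) : Commute b x := by
  obtain ⟨n, rfl⟩ := Subgroup.mem_zpowers_iff.mp hb
  exact h.zpow_left n

theorem zpowers_eq_of_prime [Finite G] {p : ℕ} (hp : p.Prime) {a b : G} (ha : orderOf a = p)
    (hb : b ∈ Subgroup.zpowers a) (hb1 : b ≠ 1) : Subgroup.zpowers b = Subgroup.zpowers a := by
  refine Subgroup.eq_of_le_of_card_ge (Subgroup.zpowers_le.mpr hb) ?_
  rw [Nat.card_zpowers, Nat.card_zpowers, ha]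
  have h := Subgroup.orderOf_dvd_natCard (Subgroup.zpowers a) hb
  rw [Nat.card_zpowers, ha] at h
  rcases (Nat.dvd_prime hp).mp h with e | e
  · exact absurd (orderOf_eq_one_iff.mp e) hb1
  · exact e.ge

theorem mem_zpowers_symm [Finite G] {p : ℕ} (hp : p.Prime) {a b : G} (ha : orderOf a = p)
    (hb : b ∈ Subgroup.zpowers a) (hb1 : b ≠ 1) : a ∈ Subgroup.zpowers b := by
  rw [zpowers_eq_of_prime hp ha hb hb1]; exact Subgroup.mem_zpowers a

theorem conj_mem_of_normalizer {H : Subgroup G} {g x : G} (hg : g ∈ Subgroup.normalizer (H : Set G))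
    (hx : x ∈ H) : g * x * g⁻¹ ∈ H :=
  (Subgroup.mem_normalizer_iff.mp hg x).mp hx

theorem mem_normalizer_of_conj [Finite G] {H : Subgroup G} {g : G} (h : ∀ x ∈ H, g * x * g⁻¹ ∈ H) :
    g ∈ Subgroup.normalizer (H : Set G) := by
  have heq : H.map (MulAut.conj g).toMonoidHom = H :=
    Subgroup.eq_of_le_of_card_ge (by rintro _ ⟨x, hx, rfl⟩; exact h x hx)
      (Subgroup.card_map_of_injective (f := (MulAut.conj g).toMonoidHom) (MulAut.conj g).injective).ge
  rw [Subgroup.mem_normalizer_iff]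
  intro x
  refine ⟨h x, fun hx => ?_⟩
  rw [← heq] at hx
  obtain ⟨y, hy, e⟩ := hx
  exact (MulAut.conj g).injective e ▸ hy

theorem commute_conj {g a x : G} (h : Commute a x) : Commute (g * a * g⁻¹) (g * x * g⁻¹) := by
  have e := congrArg (fun z => g * z * g⁻¹) h.eq
  simpa [commute_iff_eq, mul_assoc] using e

theorem commute_iff_conj_eq {g x : G} : Commute g x ↔ g * x * g⁻¹ = x :=
  ⟨fun h => by rw [h.eq, mul_inv_cancel_right], fun h => mul_inv_eq_iff_eq_mul.mp h⟩

/-- The points of `K` fixed by `a`. -/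
theorem mem_fix {K : Subgroup G} {a x : G} :
    x ∈ K ⊓ Subgroup.centralizer {a} ↔ x ∈ K ∧ Commute a x := by
  rw [Subgroup.mem_inf, Subgroup.mem_centralizer_singleton_iff]
  exact ⟨fun h => ⟨h.1, h.2.symm⟩, fun h => ⟨h.1, h.2.symm⟩⟩

theorem normalizer_fix [Finite G] {K : Subgroup G} {a g : G} (hg : g ∈ Subgroup.normalizer (K : Set G))
    (hga : g * a * g⁻¹ ∈ Subgroup.zpowers a) (ha : a ∈ Subgroup.zpowers (g * a * g⁻¹)) :
    g ∈ Subgroup.normalizer ((K ⊓ Subgroup.centralizer {a} : Subgroup G) : Set G) := by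
  refine mem_normalizer_of_conj fun x hx => ?_
  obtain ⟨hxK, hax⟩ := mem_fix.mp hx
  exact mem_fix.mpr ⟨conj_mem_of_normalizer hg hxK, commute_of_mem_zpowers (commute_conj hax) ha⟩

theorem normalizer_fix_of_commute [Finite G] {K : Subgroup G} {a g : G}
    (hg : g ∈ Subgroup.normalizer (K : Set G)) (hga : Commute g a) :
    g ∈ Subgroup.normalizer ((K ⊓ Subgroup.centralizer {a} : Subgroup G) : Set G) := by
  have e : g * a * g⁻¹ = a := commute_iff_conj_eq.mp hga
  exact normalizer_fix hg (by rw [e]; exact Subgroup.mem_zpowers a) (by rw [e]; exact Subgroup.mem_zpowers a)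

/-! ### Elementary groups of order `p²` -/

/-- An elementary abelian subgroup of order `p²`. -/
def IsE (p : ℕ) (E : Subgroup G) : Prop :=
  (∀ a ∈ E, ∀ b ∈ E, Commute a b) ∧ (∀ a ∈ E, a ^ p = 1) ∧ Nat.card E = p ^ 2

theorem exists_isE [Finite G] {p : ℕ} (hp : p.Prime) {a b : G} (ha : orderOf a = p) (hb : b ^ p = 1)
    (hab : Commute a b) (hb' : b ∉ Subgroup.zpowers a) :
    ∃ E : Subgroup G, IsE p E ∧ a ∈ E ∧ b ∈ E ∧ ∀ H : Subgroup G, a ∈ H → b ∈ H → E ≤ H := by
  have hb1 : orderOf b = p := by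
    have := Fact.mk hp
    exact orderOf_eq_prime hb fun e => hb' (e ▸ one_mem _)
  let φ : Subgroup.zpowers a × Subgroup.zpowers b →* G :=
    MonoidHom.noncommCoprod (Subgroup.zpowers a).subtype (Subgroup.zpowers b).subtype
      fun x y => by
        obtain ⟨i, hi⟩ := Subgroup.mem_zpowers_iff.mp x.2
        obtain ⟨j, hj⟩ := Subgroup.mem_zpowers_iff.mp y.2
        show Commute (x : G) (y : G)
        rw [← hi, ← hj]; exact hab.zpow_zpow i j
  have hinj : Function.Injective φ := by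
    rw [injective_iff_map_eq_one]
    rintro ⟨x, y⟩ h
    have hy : (y : G) ∈ Subgroup.zpowers a := by
      rw [show (y : G) = (x : G)⁻¹ from eq_inv_of_mul_eq_one_right h]; exact inv_mem x.2
    have hy1 : (y : G) = 1 := by
      by_contra hne
      exact hb' (Subgroup.zpowers_le.mpr hy (mem_zpowers_symm hp hb1 y.2 hne))
    have hx1 : (x : G) = 1 := by
      have h' : (x : G) * (y : G) = 1 := h
      rwa [hy1, mul_one] at h'
    exact Prod.ext (Subtype.ext hx1) (Subtype.ext hy1)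
  refine ⟨φ.range, ⟨?_, ?_, ?_⟩, ⟨(⟨a, Subgroup.mem_zpowers a⟩, 1), by simp [φ]⟩,
    ⟨(1, ⟨b, Subgroup.mem_zpowers b⟩), by simp [φ]⟩, ?_⟩
  · rintro _ ⟨x, rfl⟩ _ ⟨y, rfl⟩
    have hc : ∀ (c : G) (i j : Subgroup.zpowers c), Commute i j := fun c i j => by
      obtain ⟨m, hm⟩ := Subgroup.mem_zpowers_iff.mp i.2
      obtain ⟨n, hn⟩ := Subgroup.mem_zpowers_iff.mp j.2
      refine Subtype.ext ?_
      show (i : G) * j = j * i
      rw [← hm, ← hn]; exact ((Commute.refl c).zpow_zpow m n).eq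
    exact (Commute.prod (hc a x.1 y.1) (hc b x.2 y.2)).map φ
  · rintro _ ⟨⟨x, y⟩, rfl⟩
    have hx : (x : G) ^ p = 1 := orderOf_dvd_iff_pow_eq_one.mp (by
      have := Subgroup.orderOf_dvd_natCard (Subgroup.zpowers a) x.2
      rwa [Nat.card_zpowers, ha] at this)
    have hy : (y : G) ^ p = 1 := orderOf_dvd_iff_pow_eq_one.mp (by
      have := Subgroup.orderOf_dvd_natCard (Subgroup.zpowers b) y.2
      rwa [Nat.card_zpowers, hb1] at this)
    rw [← map_pow, show ((x, y) ^ p : Subgroup.zpowers a × Subgroup.zpowers b) = 1 from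
      Prod.ext (Subtype.ext (by simpa using hx)) (Subtype.ext (by simpa using hy)), map_one]
  · rw [← Nat.card_congr (MonoidHom.ofInjective hinj).toEquiv, Nat.card_prod, Nat.card_zpowers,
      Nat.card_zpowers, ha, hb1, sq]
  · rintro H haH hbH _ ⟨⟨x, y⟩, rfl⟩
    exact mul_mem (Subgroup.zpowers_le.mpr haH x.2) (Subgroup.zpowers_le.mpr hbH y.2)

variable {p : ℕ} {E : Subgroup G}

theorem IsE.isPGroup (hE : IsE p E) : IsPGroup p E :=
  fun a => ⟨1, Subtype.ext (by rw [pow_one]; exact hE.2.1 a a.2)⟩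

theorem IsE.pel (hE : IsE p E) {e : G} (he : e ∈ E) (h1 : e ≠ 1) : IsPEl p e :=
  IsPEl.of_mem hE.isPGroup he h1

theorem IsE.orderOf (hE : IsE p E) (hp : p.Prime) {e : G} (he : e ∈ E) (h1 : e ≠ 1) : orderOf e = p := by
  have := Fact.mk hp
  exact orderOf_eq_prime (hE.2.1 e he) h1

theorem IsE.exists_notMem [Finite G] (hE : IsE p E) (hp : p.Prime) (a : G) (ha : a ∈ E) :
    ∃ b ∈ E, b ∉ Subgroup.zpowers a := by
  by_contra hno
  push Not at hno
  have h1 := Nat.le_of_dvd Nat.card_pos (Subgroup.card_dvd_of_le (K := Subgroup.zpowers a) hno)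
  rw [hE.2.2, Nat.card_zpowers] at h1
  have h2 : _root_.orderOf a ≤ p := Nat.le_of_dvd hp.pos (orderOf_dvd_of_pow_eq_one (hE.2.1 a ha))
  nlinarith [hp.two_le]

theorem IsE.not_isCyclic [Finite G] (hE : IsE p E) (hp : p.Prime) : ¬ IsCyclic E := by
  intro h
  obtain ⟨⟨a, ha⟩, hg⟩ := h.exists_generator
  obtain ⟨b, hb, hb'⟩ := hE.exists_notMem hp a ha
  obtain ⟨n, hn⟩ := hg ⟨b, hb⟩
  exact hb' ⟨n, congrArg Subtype.val hn⟩

theorem IsE.gen_le [Finite G] (hE : IsE p E) (hp : p.Prime) {K : Subgroup G}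
    (hEK : E ≤ Subgroup.normalizer (K : Set G)) (hK : ¬ p ∣ Nat.card K) {D : Subgroup G}
    (hD : ∀ e ∈ E, e ≠ 1 → ∀ k ∈ K, Commute e k → k ∈ D) : K ≤ D := by
  have : IsMulCommutative E := ⟨⟨fun a b => Subtype.ext (hE.1 a a.2 b b.2).eq⟩⟩
  rw [← coprime_generated_by_centralizers (hE.not_isCyclic hp) hEK (by
    rw [hE.2.2]; exact (hp.coprime_iff_not_dvd.mpr hK).pow_left 2)]
  exact iSup₂_le fun e he k hk => hD e he.1 he.2 k (mem_fix.mp hk).1 (mem_fix.mp hk).2

theorem IsE.exists_fix [Finite G] (hE : IsE p E) (hp : p.Prime) {K : Subgroup G}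
    (hEK : E ≤ Subgroup.normalizer (K : Set G)) (hK : ¬ p ∣ Nat.card K) (hne : K ≠ ⊥) :
    ∃ e ∈ E, e ≠ 1 ∧ ∃ k ∈ K, k ≠ 1 ∧ Commute e k := by
  by_contra hno
  push Not at hno
  refine hne (le_bot_iff.mp (hE.gen_le hp hEK hK fun e he he1 k hk hc => Subgroup.mem_bot.mpr ?_))
  by_contra hk1
  exact hno e he he1 k hk hk1 hc

theorem IsE.commute_all [Finite G] (hE : IsE p E) (hp : p.Prime) {w g x : G} (hw : w ∈ E) (hg : g ∈ E)
    (hw1 : w ≠ 1) (hgw : g ∉ Subgroup.zpowers w) (h1 : Commute w x) (h2 : Commute g x) :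
    ∀ e ∈ E, Commute e x := by
  have hle : E ≤ Subgroup.centralizer {x} := by
    obtain ⟨F, hF, hwF, hgF, hmin⟩ := exists_isE hp (hE.orderOf hp hw hw1) (hE.2.1 g hg)
      (hE.1 w hw g hg) hgw
    have hFE : F = E := Subgroup.eq_of_le_of_card_ge (hmin E hw hg) (by rw [hE.2.2, hF.2.2])
    rw [← hFE]
    exact hmin _ (Subgroup.mem_centralizer_singleton_iff.mpr h1.eq)
      (Subgroup.mem_centralizer_singleton_iff.mpr h2.eq)
  exact fun e he => Subgroup.mem_centralizer_singleton_iff.mp (hle he)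

/-! ### Cores of subgroups -/

/-- `O_p(K)` as a subgroup of the ambient group. -/
def core (p : ℕ) (K : Subgroup G) : Subgroup G := (pCore p K).map K.subtype

theorem core_le (p : ℕ) (K : Subgroup G) : core p K ≤ K := Subgroup.map_subtype_le _

theorem core_isPGroup [Finite G] (p : ℕ) (K : Subgroup G) : IsPGroup p (core p K) :=
  (isPGroup_pCore p).map _

theorem core_normalizer [Finite G] (p : ℕ) (K : Subgroup G) :
    K ≤ Subgroup.normalizer (core p K : Set G) := fun g hg => mem_normalizer_of_conj fun x hx => by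
  obtain ⟨y, hy, rfl⟩ := hx
  have : (pCore p K).Normal := Subgroup.sSup_normal _ fun _ h => h.1
  exact ⟨⟨g, hg⟩ * y * ⟨g, hg⟩⁻¹, this.conj_mem y hy _, rfl⟩

theorem le_core [Finite G] {p : ℕ} {K N : Subgroup G} (hNK : N ≤ K)
    (hKN : K ≤ Subgroup.normalizer (N : Set G)) (hN : IsPGroup p N) : N ≤ core p K := by
  have : (N.subgroupOf K).Normal := (Subgroup.normal_subgroupOf_iff_le_normalizer hNK).mpr hKN
  have h := le_pCore (N := N.subgroupOf K) (hN.of_equiv (Subgroup.subgroupOfEquivOfLe hNK).symm)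
  intro x hx
  exact ⟨⟨x, hNK hx⟩, h hx, rfl⟩

theorem core_commute [Finite G] {p q : ℕ} (hp : p.Prime) (hq : q.Prime) (hne : p ≠ q) {K : Subgroup G}
    {a b : G} (ha : a ∈ core p K) (hb : b ∈ core q K) : Commute a b := by
  have h1 : a * b * a⁻¹ * b⁻¹ ∈ core p K ⊓ core q K := by
    refine ⟨?_, mul_mem (conj_mem_of_normalizer (core_normalizer q K (core_le p K ha)) hb) ((core q K).inv_mem hb)⟩
    rw [show a * b * a⁻¹ * b⁻¹ = a * (b * a⁻¹ * b⁻¹) by group]
    exact mul_mem ha (conj_mem_of_normalizer (core_normalizer p K (core_le q K hb)) ((core p K).inv_mem ha))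
  have h2 := Subgroup.disjoint_def.mp (Subgroup.disjoint_of_coprime_natCard
    (coprime_card_of_isPGroup hp hq hne (core_isPGroup p K) (core_isPGroup q K))) h1.1 h1.2
  rw [mul_inv_eq_one, mul_inv_eq_iff_eq_mul] at h2
  exact h2

theorem core_eq_bot [Finite G] {p : ℕ} (hp : p.Prime) {K : Subgroup G} (h : ¬ p ∣ Nat.card K) :
    core p K = ⊥ := by
  have := Fact.mk hp
  obtain ⟨n, hn⟩ := (core_isPGroup p K).exists_card_eq
  apply Subgroup.eq_bot_of_card_eq
  rcases n with _ | n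
  · simpa using hn
  · exact absurd ((dvd_pow_self p n.succ_ne_zero).trans (hn ▸ Subgroup.card_dvd_of_le (core_le p K))) h

/-- Fitting's theorem for subgroups: a subgroup containing all cores contains its centraliser. -/
theorem mem_of_commute_cores [Finite G] {K : Subgroup G} (hK : Group.IsSolvable K) {A : Subgroup G}
    (hA : ∀ p : ℕ, p.Prime → core p K ≤ A) {k : G} (hk : k ∈ K) (hc : ∀ x ∈ A, Commute k x) :
    k ∈ A := by
  have hF : fittingSubgroup K ≤ A.comap K.subtype := by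
    rw [fittingSubgroup_eq_iSup_pCore]
    exact iSup_le fun q x hx => hA q q.2 ⟨x, hx, rfl⟩
  have := centralizer_fitting_le (G := K) (show (⟨k, hk⟩ : K) ∈ Subgroup.centralizer _ from
    fun x hx => Subtype.ext ((hc _ (hF hx)).eq.symm))
  exact hF this

end CfsgLib.FourPrimes
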