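import Cfsg.Agent.Lib.FourPrimes.Action
import Cfsg.Agent.Lib.CentralizeOmega

/-!
Two commuting normal subgroups of coprime prime-power order, acted on by a `{u,s}`-group.
-/

set_option autoImplicit false

namespace CfsgLib.FourPrimes

open Cfsg Subgroup

universe u
variable {G : Type u} [Group G] [Finite G]

/-- The standing hypothesis: no commuting triple, no element seeing three further primes, enough
elementary groups. -/
structure Hyp (G : Type u) [Group G] (σ : Finset ℕ) : Prop where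
  prime : ∀ p ∈ σ, p.Prime
  tri : ∀ p ∈ σ, ∀ q ∈ σ, ∀ r ∈ σ, p ≠ q → q ≠ r → p ≠ r → ∀ a b c : G, orderOf a = p → orderOf b = q →
    orderOf c = r → Commute a b → Commute b c → Commute a c → False
  three : ∀ p ∈ σ, ∀ q₁ ∈ σ, ∀ q₂ ∈ σ, ∀ q₃ ∈ σ, p ≠ q₁ → p ≠ q₂ → p ≠ q₃ → q₁ ≠ q₂ → q₁ ≠ q₃ → q₂ ≠ q₃ →
    ∀ a b₁ b₂ b₃ : G, IsPEl p a → IsPEl q₁ b₁ → IsPEl q₂ b₂ → IsPEl q₃ b₃ →
    Commute a b₁ → Commute a b₂ → Commute a b₃ → False
  rank : ∀ p ∈ σ, ∀ H : Subgroup G, ¬ p ∣ H.index → ∃ E : Subgroup G, E ≤ H ∧ IsE p E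

variable {σ : Finset ℕ}

theorem Hyp.tri' (h : Hyp G σ) {p q r : ℕ} (hp : p ∈ σ) (hq : q ∈ σ) (hr : r ∈ σ) (h1 : p ≠ q) (h2 : q ≠ r)
    (h3 : p ≠ r) {a b c : G} (ha : IsPEl p a) (hb : IsPEl q b) (hc : IsPEl r c) (hab : Commute a b)
    (hbc : Commute b c) (hac : Commute a c) : False := by
  obtain ⟨i, hi⟩ := ha.exists_orderOf (h.prime p hp)
  obtain ⟨j, hj⟩ := hb.exists_orderOf (h.prime q hq)
  obtain ⟨k, hk⟩ := hc.exists_orderOf (h.prime r hr)
  exact h.tri p hp q hq r hr h1 h2 h3 _ _ _ hi hj hk (hab.pow_pow i j) (hbc.pow_pow j k) (hac.pow_pow i k)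

theorem isPEl_of_pow_eq_one {p : ℕ} (hp : p.Prime) {a : G} (h : a ^ p = 1) (h1 : a ≠ 1) : IsPEl p a :=
  ⟨h1, 1, by rwa [pow_one]⟩

/-- The data of case A. -/
structure DataA (σ : Finset ℕ) (r t u s : ℕ) (R T L : Subgroup G) : Prop where
  hyp : Hyp G σ
  hr : r ∈ σ
  ht : t ∈ σ
  hu : u ∈ σ
  hs : s ∈ σ
  rt : r ≠ t
  ru : r ≠ u
  rs : r ≠ s
  tu : t ≠ u
  ts : t ≠ s
  us : u ≠ s
  Rp : IsPGroup r R
  Tp : IsPGroup t T
  Rne : R ≠ ⊥
  Tne : T ≠ ⊥
  LR : L ≤ Subgroup.normalizer (R : Set G)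
  LT : L ≤ Subgroup.normalizer (T : Set G)
  comm : ∀ x ∈ R, ∀ y ∈ T, Commute x y
  faith : ∀ l ∈ L, (∀ x ∈ R, Commute l x) → (∀ y ∈ T, Commute l y) → l = 1
  solv : Group.IsSolvable L
  supp : ∀ p : ℕ, p.Prime → p ∣ Nat.card L → p = u ∨ p = s
  iu : ¬ u ∣ L.index
  is' : ¬ s ∣ L.index

variable {r t u s : ℕ} {R T L : Subgroup G}

theorem DataA.swapRT (d : DataA σ r t u s R T L) : DataA σ t r u s T R L :=
  ⟨d.hyp, d.ht, d.hr, d.hu, d.hs, d.rt.symm, d.tu, d.ts, d.ru, d.rs, d.us, d.Tp, d.Rp, d.Tne, d.Rne, d.LT,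
    d.LR, fun x hx y hy => (d.comm y hy x hx).symm, fun l hl h1 h2 => d.faith l hl h2 h1, d.solv, d.supp,
    d.iu, d.is'⟩

theorem DataA.swapUS (d : DataA σ r t u s R T L) : DataA σ r t s u R T L :=
  ⟨d.hyp, d.hr, d.ht, d.hs, d.hu, d.rt, d.rs, d.ru, d.ts, d.tu, d.us.symm, d.Rp, d.Tp, d.Rne, d.Tne, d.LR,
    d.LT, d.comm, d.faith, d.solv, fun p hp hd => (d.supp p hp hd).symm, d.is', d.iu⟩

theorem DataA.pr (d : DataA σ r t u s R T L) : r.Prime ∧ t.Prime ∧ u.Prime ∧ s.Prime :=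
  ⟨d.hyp.prime r d.hr, d.hyp.prime t d.ht, d.hyp.prime u d.hu, d.hyp.prime s d.hs⟩

/-- No element of `L` of `u`-power order sees both `R` and `T`. -/
theorem DataA.not_both (d : DataA σ r t u s R T L) {a x y : G} (ha : IsPEl u a) (hx : x ∈ R) (hx1 : x ≠ 1)
    (hy : y ∈ T) (hy1 : y ≠ 1) (hax : Commute a x) (hay : Commute a y) : False :=
  d.hyp.tri' d.hu d.hr d.ht d.ru.symm d.rt d.tu.symm ha (IsPEl.of_mem d.Rp hx hx1)
    (IsPEl.of_mem d.Tp hy hy1) hax (d.comm x hx y hy) hay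

/-- An element of order `u` centralised by an elementary `s`-group of order `s²` fixes nothing on `R`. -/
theorem DataA.central_fpf (d : DataA σ r t u s R T L) {E : Subgroup G} (hEL : E ≤ L) (hE : IsE s E) {z : G}
    (hz : IsPEl u z) (hEz : ∀ e ∈ E, Commute e z) : ∀ x ∈ R, Commute z x → x = 1 := by
  obtain ⟨hr, ht, hu, hs⟩ := d.pr
  intro x hx hzx
  by_contra hx1
  have hne : R ⊓ Subgroup.centralizer {z} ≠ ⊥ := fun e => hx1 (Subgroup.mem_bot.mp (e ▸ mem_fix.mpr ⟨hx, hzx⟩))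
  obtain ⟨e, he, he1, k, hk, hk1, hek⟩ := hE.exists_fix hs
    (fun g hg => normalizer_fix_of_commute (d.LR (hEL hg)) (hEz g hg))
    (not_dvd_card_of_isPGroup hs hr d.rs.symm (d.Rp.to_le inf_le_left)) hne
  obtain ⟨hkR, hzk⟩ := mem_fix.mp hk
  exact d.hyp.tri' d.hs d.hu d.hr d.us.symm d.ru.symm d.rs.symm (hE.pel he he1) hz
    (IsPEl.of_mem d.Rp hkR hk1) (hEz e he) hzk hek

/-- The semiregular action of an element of order `s` on a `u`-group. -/
theorem DataA.fix_R (d : DataA σ r t u s R T L) {X : Subgroup G} (hX : IsPGroup u X) (hXL : X ≤ L) {g : G}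
    (hg : g ∈ L) (hgo : orderOf g = s) (hgX : g ∈ Subgroup.normalizer (X : Set G))
    (hfpf : ∀ x ∈ X, Commute g x → x = 1) (hne : ∃ x ∈ X, ∃ v ∈ R, ¬ Commute x v) :
    ∃ v ∈ R, v ≠ 1 ∧ Commute g v := by
  obtain ⟨hr, ht, hu, hs⟩ := d.pr
  have := Fact.mk hr
  by_contra hno
  push Not at hno
  obtain ⟨x, hx, v, hv, hxv⟩ := hne
  refine hxv (commute_of_semiregular d.Rp (hXL.trans d.LR) (d.LR hg) hgX
    (coprime_card_of_isPGroup hu hr d.ru.symm hX d.Rp) ?_ ?_ (fun w hw hc => ?_) x hx v hv)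
  · rw [hgo]
    exact hs.coprime_iff_not_dvd.mpr (not_dvd_card_of_isPGroup hs hr d.rs.symm d.Rp)
  · intro n hn y hy hc
    refine hfpf y hy (commute_of_mem_zpowers hc ?_)
    exact mem_zpowers_symm hs hgo (Subgroup.mem_zpowers_iff.mpr ⟨(n : ℤ), zpow_natCast g n⟩) hn
  · by_contra hw1
    exact hno w hw hw1 hc

/-- The first half of the analysis of a moved elementary normal subgroup. -/
theorem DataA.moved_aux (d : DataA σ r t u s R T L) {E X : Subgroup G} (hEL : E ≤ L) (hE : IsE s E)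
    (hXL : X ≤ L) (hX : IsPGroup u X) (hEX : E ≤ Subgroup.normalizer (X : Set G)) {w x : G}
    (hw : w ∈ E) (hw1 : w ≠ 1) (hwX : ∀ y ∈ X, Commute w y)
    (hfix : ∀ g ∈ E, g ∉ Subgroup.zpowers w → ∀ y ∈ X, Commute g y → y = 1)
    (hx : x ∈ X) (hx1 : x ≠ 1) (hXR : ∀ y ∈ X, ∀ v ∈ R, Commute y v) : False := by
  obtain ⟨hr, ht, hu, hs⟩ := d.pr
  refine d.Rne (le_bot_iff.mp (hE.gen_le hs (hEL.trans d.LR) (not_dvd_card_of_isPGroup hs hr d.rs.symm d.Rp)
    fun e he he1 k hk hek => Subgroup.mem_bot.mpr ?_))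
  by_contra hk1
  by_cases hew : e ∈ Subgroup.zpowers w
  · have hwk : Commute w k :=
      commute_of_mem_zpowers hek (mem_zpowers_symm hs (hE.orderOf hs hw hw1) hew he1)
    exact d.hyp.tri' d.hs d.hu d.hr d.us.symm d.ru.symm d.rs.symm (hE.pel hw hw1)
      (IsPEl.of_mem hX hx hx1) (IsPEl.of_mem d.Rp hk hk1) (hwX x hx) (hXR x hx k hk) hwk
  · obtain ⟨y, hy, hy1, hey⟩ := d.swapRT.fix_R hX hXL (hEL he) (hE.orderOf hs he he1) (hEX he) (hfix e he hew)
      (by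
        by_contra hno
        push Not at hno
        exact hx1 (d.faith x (hXL hx) (hXR x hx) (hno x hx)))
    exact d.swapUS.not_both (hE.pel he he1) hk hk1 hy hy1 hek hey

/-- A normal elementary abelian `u`-subgroup is centralised by every `s²`. -/
theorem DataA.elementary_central (d : DataA σ r t u s R T L) {M : Subgroup G} (hML : M ≤ L)
    (hLM : L ≤ Subgroup.normalizer (M : Set G)) (hMc : ∀ a ∈ M, ∀ b ∈ M, Commute a b)
    (hMu : ∀ a ∈ M, a ^ u = 1) {E : Subgroup G} (hEL : E ≤ L) (hE : IsE s E) :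
    ∀ e ∈ E, ∀ m ∈ M, Commute e m := by
  obtain ⟨hr, ht, hu, hs⟩ := d.pr
  have hMp : IsPGroup u M := fun a => ⟨1, Subtype.ext (by rw [pow_one]; exact hMu a a.2)⟩
  by_contra hno
  push Not at hno
  obtain ⟨e₀, he₀, m₀, hm₀, hne₀⟩ := hno
  obtain ⟨w, hw, hw1, m, hm, hwm, g₀, hg₀, hgm⟩ : ∃ w ∈ E, w ≠ 1 ∧ ∃ m ∈ M, Commute w m ∧
      ∃ g₀ ∈ E, ¬ Commute g₀ m := by
    by_contra hno
    push Not at hno
    have := hE.gen_le hs (hEL.trans hLM) (not_dvd_card_of_isPGroup hs hu d.us.symm hMp)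
      (D := Subgroup.centralizer (E : Set G)) fun e he he1 k hk hek => fun g hg => hno e he he1 k hk hek g hg
    exact hne₀ (this hm₀ e₀ he₀)
  have hMw : ∀ g ∈ E, g ∈ Subgroup.normalizer ((M ⊓ Subgroup.centralizer {w} : Subgroup G) : Set G) :=
    fun g hg => normalizer_fix_of_commute (hLM (hEL hg)) (hE.1 g hg w hw)
  have hcomm : ∀ a ∈ M ⊓ Subgroup.centralizer {w}, ∀ b ∈ M ⊓ Subgroup.centralizer {w}, Commute a b :=
    fun a ha b hb => hMc a ha.1 b hb.1
  let X := commSub (M ⊓ Subgroup.centralizer {w}) g₀ hcomm (hMw g₀ hg₀)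
  have hXM : X ≤ M := commSub_le.trans inf_le_left
  have hXp : IsPGroup u X := hMp.to_le hXM
  have hwX : ∀ y ∈ X, Commute w y := fun y hy => (mem_fix.mp (commSub_le hy)).2
  have hEX : E ≤ Subgroup.normalizer (X : Set G) := fun g hg => commSub_normalizer (hMw g hg) (hE.1 g hg g₀ hg₀)
  have hfix : ∀ g ∈ E, g ∉ Subgroup.zpowers w → ∀ y ∈ X, Commute g y → y = 1 := by
    intro g hg hgw y hy hc
    refine commSub_fpf ?_ hy (hE.commute_all hs hw hg hw1 hgw (hwX y hy) hc g₀ hg₀)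
    rw [hE.orderOf hs hg₀ (fun e => hgm (e ▸ Commute.one_left m))]
    exact hs.coprime_iff_not_dvd.mpr (not_dvd_card_of_isPGroup hs hu d.us.symm (hMp.to_le inf_le_left))
  obtain ⟨x, hx, hx1⟩ := commSub_mem (hM := hcomm) (hw := hMw g₀ hg₀) (mem_fix.mpr ⟨hm, hwm⟩) hgm
  by_cases hXR : ∀ y ∈ X, ∀ v ∈ R, Commute y v
  · exact d.moved_aux hEL hE (hXM.trans hML) hXp hEX hw hw1 hwX hfix hx hx1 hXR
  by_cases hXT : ∀ y ∈ X, ∀ v ∈ T, Commute y v
  · exact d.swapRT.moved_aux hEL hE (hXM.trans hML) hXp hEX hw hw1 hwX hfix hx hx1 hXT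
  push Not at hXR hXT
  obtain ⟨g, hg, hgw⟩ := hE.exists_notMem hs w hw
  have hg1 : g ≠ 1 := fun e => hgw (e ▸ one_mem _)
  obtain ⟨v, hv, hv1, hgv⟩ := d.fix_R hXp (hXM.trans hML) (hEL hg) (hE.orderOf hs hg hg1) (hEX hg)
    (hfix g hg hgw) hXR
  obtain ⟨y, hy, hy1, hgy⟩ := d.swapRT.fix_R hXp (hXM.trans hML) (hEL hg) (hE.orderOf hs hg hg1) (hEX hg)
    (hfix g hg hgw) hXT
  exact d.swapUS.not_both (hE.pel hg hg1) hv hv1 hy hy1 hgv hgy

/-- A conjugate pair `y, y z` gives an element seeing both `R` and `T`. -/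
theorem DataA.no_conj (d : DataA σ r t u s R T L) {P : Subgroup G} (hPL : P ≤ L) (hP : IsPGroup u P) {z : G}
    (hzP : z ∈ P) (hz : orderOf z = u) (hzc : ∀ g ∈ P, Commute g z)
    (huniq : ∀ c ∈ P, c ^ u = 1 → (∀ g ∈ P, Commute g c) → c ∈ Subgroup.zpowers z)
    (hex : ∃ b ∈ P, b ^ u = 1 ∧ b ∉ Subgroup.zpowers z)
    (hfR : ∀ x ∈ R, Commute z x → x = 1) (hfT : ∀ y ∈ T, Commute z y → y = 1) : False := by
  obtain ⟨hr, ht, hu, hs⟩ := d.pr
  obtain ⟨y, hy, hyo, hyz, g, hg, k, hk, hk1, hgy⟩ := exists_conj_mul hu hP hzP hz hzc huniq hex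
  obtain ⟨A, hA, hzA, hyA, hmin⟩ := exists_isE hu hz (by rw [← hyo, pow_orderOf_eq_one]) (hzc y hy).symm hyz
  have hAP : A ≤ P := hmin P hzP hy
  have hgk : Commute g k := (commute_of_mem_zpowers (hzc g hg).symm hk).symm
  have hconj : ∀ n : ℕ, g ^ n * y * (g ^ n)⁻¹ = y * k ^ n := by
    intro n
    induction n with
    | zero => simp
    | succ n ih =>
      calc g ^ (n + 1) * y * (g ^ (n + 1))⁻¹ = g * (g ^ n * y * (g ^ n)⁻¹) * g⁻¹ := by rw [pow_succ']; group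
        _ = g * (y * k ^ n) * g⁻¹ := by rw [ih]
        _ = (g * y * g⁻¹) * (g * k ^ n * g⁻¹) := by group
        _ = y * k ^ (n + 1) := by rw [hgy, commute_iff_conj_eq.mp (hgk.pow_right n), pow_succ', mul_assoc]
  -- every element of `A` outside `⟨z⟩` has `y` conjugate into its cyclic group
  have key : ∀ V : Subgroup G, L ≤ Subgroup.normalizer (V : Set G) → ∀ a ∈ A, a ∉ Subgroup.zpowers z →
      ∀ v ∈ V, v ≠ 1 → Commute a v → ∃ w ∈ V, w ≠ 1 ∧ Commute y w := by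
    intro V hV a ha haz v hv hv1 hav
    have hcen : ∀ b ∈ A, ∃ n : ℕ, b * (k ^ n)⁻¹ ∈ Subgroup.zpowers y := by
      have hkz : Subgroup.zpowers k = Subgroup.zpowers z := zpowers_eq_of_prime hu hz hk hk1
      have hyk : Commute y k := (commute_of_mem_zpowers (hzc y hy).symm hk).symm
      intro b hb
      have hle : A ≤ (Subgroup.zpowers y ⊔ Subgroup.zpowers k) :=
        hmin _ (Subgroup.mem_sup_right (hkz ▸ Subgroup.mem_zpowers z))
          (Subgroup.mem_sup_left (Subgroup.mem_zpowers y))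
      have hn : Subgroup.zpowers k ≤ Subgroup.normalizer (Subgroup.zpowers y : Set G) := by
        refine Subgroup.zpowers_le.mpr (mem_normalizer_of_conj fun x hx => ?_)
        rwa [commute_iff_conj_eq.mp (commute_of_mem_zpowers hyk hx).symm]
      obtain ⟨p, hp, q, hq, e⟩ := CfsgLib.mem_sup_of_le_normalizer hn (hle hb)
      obtain ⟨n, hn'⟩ := (isOfFinOrder_of_finite k).mem_powers_iff_mem_zpowers.mpr hq
      refine ⟨n, ?_⟩
      rw [← e, show k ^ n = q from hn', mul_inv_cancel_right]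
      exact hp
    obtain ⟨n, hn⟩ := hcen a ha
    have hne : a * (k ^ n)⁻¹ ≠ 1 := fun e => haz (by
      rw [mul_inv_eq_one.mp e]; exact pow_mem hk n)
    obtain ⟨i, hi⟩ := (isOfFinOrder_of_finite (a * (k ^ n)⁻¹)).mem_powers_iff_mem_zpowers.mpr
      (mem_zpowers_symm hu hyo hn hne)
    obtain ⟨m, hm⟩ : ∃ m : ℕ, a ^ i = y * k ^ m := by
      have hi' : (a * (k ^ n)⁻¹) ^ i = y := hi
      have hak : Commute a (k ^ n)⁻¹ :=
        ((commute_of_mem_zpowers (hzc a (hAP ha)).symm hk).pow_left n).inv_left.symm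
      rw [hak.mul_pow, inv_pow, ← pow_mul] at hi'
      exact ⟨n * i, by rw [← hi', inv_mul_cancel_right]⟩
    have hv' : Commute (y * k ^ m) v := hm ▸ hav.pow_left i
    have hgL : (g ^ m)⁻¹ ∈ L := L.inv_mem (L.pow_mem (hPL hg) m)
    refine ⟨(g ^ m)⁻¹ * v * g ^ m, by simpa using conj_mem_of_normalizer (hV hgL) hv,
      fun e => hv1 ?_, ?_⟩
    · have := congrArg (fun x => g ^ m * x * (g ^ m)⁻¹) e
      simpa [mul_assoc] using this
    · have h := commute_conj (g := (g ^ m)⁻¹) hv'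
      rw [← hconj m] at h
      simpa [mul_assoc] using h
  have findfix : ∀ (V : Subgroup G) (q : ℕ), q.Prime → u ≠ q → IsPGroup q V → V ≠ ⊥ →
      L ≤ Subgroup.normalizer (V : Set G) → (∀ v ∈ V, Commute z v → v = 1) →
      ∃ w ∈ V, w ≠ 1 ∧ Commute y w := by
    intro V q hq huq hVp hV0 hV hf
    obtain ⟨a, ha, ha1, v, hv, hv1, hav⟩ := hA.exists_fix hu ((hAP.trans hPL).trans hV)
      (not_dvd_card_of_isPGroup hu hq huq hVp) hV0
    exact key V hV a ha (fun haz => hv1 (hf v hv (commute_of_mem_zpowers hav (mem_zpowers_symm hu hz haz ha1))))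
      v hv hv1 hav
  obtain ⟨x, hx, hx1, hyx⟩ := findfix R r hr d.ru.symm d.Rp d.Rne d.LR hfR
  obtain ⟨x', hx', hx1', hyx'⟩ := findfix T t ht d.tu.symm d.Tp d.Tne d.LT hfT
  exact d.not_both (IsPEl.of_orderOf hu hyo) hx hx1 hx' hx1' hyx hyx'

/-- The structure of a non-trivial `O_u(L)`. -/
theorem DataA.core_structure (d : DataA σ r t u s R T L) (hne : core u L ≠ ⊥) :
    ∃ z ∈ core u L, orderOf z = u ∧ (∀ x ∈ R, Commute z x → x = 1) ∧ (∀ y ∈ T, Commute z y → y = 1) ∧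
      (∀ l ∈ L, l * z * l⁻¹ ∈ Subgroup.zpowers z) ∧
      (∀ x ∈ core u L, x ^ u = 1 → x ∈ Subgroup.zpowers z) ∧
      ∀ E : Subgroup G, E ≤ L → IsE s E → ∀ e ∈ E, Commute e z := by
  obtain ⟨hr, ht, hu, hs⟩ := d.pr
  set U := core u L with hU
  have hUp : IsPGroup u U := core_isPGroup u L
  obtain ⟨z, hz, hzo⟩ := exists_omZ hu hUp hne
  have hcen := fun (E : Subgroup G) (h1 : E ≤ L) (h2 : IsE s E) => d.elementary_central (M := omZ u U)
    (fun x hx => core_le u L hx.1) (fun g hg => omZ_normalizer (core_normalizer u L hg))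
    (fun a ha b hb => ha.2.2 b hb.1) (fun a ha => ha.2.1) h1 h2
  obtain ⟨E, hEL, hE⟩ := d.hyp.rank s d.hs L d.is'
  have hMfpf : ∀ m ∈ omZ u U, m ≠ 1 →
      (∀ x ∈ R, Commute m x → x = 1) ∧ ∀ y ∈ T, Commute m y → y = 1 := fun m hm hm1 =>
    ⟨d.central_fpf hEL hE (isPEl_of_pow_eq_one hu hm.2.1 hm1) fun e he => hcen E hEL hE e he m hm,
      d.swapRT.central_fpf hEL hE (isPEl_of_pow_eq_one hu hm.2.1 hm1) fun e he => hcen E hEL hE e he m hm⟩
  have hM1 : ∀ m ∈ omZ u U, m ∈ Subgroup.zpowers z := by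
    intro m hm
    by_contra hmz
    obtain ⟨A, hA, -, -, hmin⟩ := exists_isE hu hzo hm.2.1 (hz.2.2 m hm.1) hmz
    have hAM : A ≤ omZ u U := hmin _ hz hm
    obtain ⟨a, ha, ha1, v, hv, hv1, hav⟩ := hA.exists_fix hu
      ((fun x hx => d.LR (core_le u L (hAM hx).1)) : A ≤ Subgroup.normalizer (R : Set G))
      (not_dvd_card_of_isPGroup hu hr d.ru.symm d.Rp) d.Rne
    exact hv1 ((hMfpf a (hAM ha) ha1).1 v hv hav)
  have hz1 : z ≠ 1 := fun e => hu.ne_one (by rw [← hzo, e, orderOf_one])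
  have hzn : ∀ l ∈ L, l * z * l⁻¹ ∈ Subgroup.zpowers z := fun l hl =>
    hM1 _ (conj_mem_of_normalizer (omZ_normalizer (core_normalizer u L hl)) hz)
  refine ⟨z, hz.1, hzo, (hMfpf z hz hz1).1, (hMfpf z hz hz1).2, hzn, fun x hx hxu => ?_,
    fun E hEL hE e he => hcen E hEL hE e he z hz⟩
  by_contra hxz
  exact d.no_conj (core_le u L) hUp hz.1 hzo (fun g hg => (hz.2.2 g hg).symm)
    (fun c hc hcu hcc => hM1 c ⟨hc, hcu, fun y hy => (hcc y hy).symm⟩) ⟨x, hx, hxu, hxz⟩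
    (hMfpf z hz hz1).1 (hMfpf z hz hz1).2

/-- With a `u`-Sylow subgroup in view there is a second central element of order `u`. -/
theorem DataA.exists_central (d : DataA σ r t u s R T L) {P : Subgroup G} (hPL : P ≤ L) (hP : IsPGroup u P)
    (hPi : ¬ u ∣ P.relIndex L) {z : G} (hzP : z ∈ P) (hz : orderOf z = u)
    (hzn : ∀ l ∈ L, l * z * l⁻¹ ∈ Subgroup.zpowers z)
    (hfR : ∀ x ∈ R, Commute z x → x = 1) (hfT : ∀ y ∈ T, Commute z y → y = 1) :
    ∃ c ∈ P, c ^ u = 1 ∧ (∀ g ∈ P, Commute g c) ∧ c ∉ Subgroup.zpowers z := by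
  obtain ⟨hr, ht, hu, hs⟩ := d.pr
  by_contra hno
  push Not at hno
  obtain ⟨E, hEP, hE⟩ := d.hyp.rank u d.hu P (not_dvd_index_of hu hPL hPi d.iu)
  obtain ⟨b, hb, hbz⟩ : ∃ b ∈ E, b ∉ Subgroup.zpowers z := by
    by_contra hall
    push Not at hall
    have h1 := Nat.le_of_dvd Nat.card_pos (Subgroup.card_dvd_of_le (K := Subgroup.zpowers z) hall)
    rw [hE.2.2, Nat.card_zpowers, hz] at h1
    nlinarith [hu.two_le]
  exact d.no_conj hPL hP hzP hz (fun g hg => commute_of_normal_prime hu hP hg hz (hzn g (hPL hg)))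
    (fun c hc hcu hcc => hno c hc hcu hcc) ⟨b, hEP hb, hE.2.1 b hb, hbz⟩ hfR hfT

theorem DataA.cores_le (d : DataA σ r t u s R T L) : ∀ p : ℕ, p.Prime → core p L ≤ core u L ⊔ core s L := by
  intro p hp
  by_cases hd : p ∣ Nat.card L
  · rcases d.supp p hp hd with rfl | rfl
    exacts [le_sup_left, le_sup_right]
  · rw [core_eq_bot hp hd]; exact bot_le

theorem DataA.absurd_core (d : DataA σ r t u s R T L) (hne : core u L ≠ ⊥) (hu2 : core s L = ⊥ ∨ u ≠ 2) :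
    False := by
  obtain ⟨hr, ht, hu, hs⟩ := d.pr
  obtain ⟨z, hzU, hzo, hfR, hfT, hzn, huniq, hzc⟩ := d.core_structure hne
  by_cases hsb : core s L = ⊥
  · obtain ⟨P, hPL, hP, hPi, hUP⟩ := exists_sylowIn hu L
    obtain ⟨c, hc, hcu, hcc, hcz⟩ := d.exists_central hPL hP hPi (hUP hzU) hzo hzn hfR hfT
    refine hcz (huniq c ?_ hcu)
    refine mem_of_commute_cores d.solv (A := core u L) (fun p hp => ?_) (hPL hc) fun x hx => (hcc x (hUP hx)).symm
    have h := d.cores_le p hp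
    rwa [hsb, sup_bot_eq] at h
  · have hodd : u ≠ 2 := hu2.resolve_left hsb
    obtain ⟨w, hwS, hwo, hfR', hfT', hwn, huniq', -⟩ := d.swapUS.core_structure hsb
    obtain ⟨P, hPL, hP, hPi, hSP⟩ := exists_sylowIn hs L
    obtain ⟨c, hc, hcs, hcc, hcw⟩ := d.swapUS.exists_central hPL hP hPi (hSP hwS) hwo hwn hfR' hfT'
    obtain ⟨E, hE, hwE, hcE, hmin⟩ := exists_isE hs hwo hcs (hcc w (hSP hwS)).symm.symm hcw
    have hEL : E ≤ L := hmin L (core_le s L hwS) (hPL hc)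
    have := Fact.mk hu
    have hcU : ∀ x ∈ core u L, Commute c x := fun x hx => commute_iff_conj_eq.mpr
      (centralizes_of_fixes_order_p hodd c (by
          rcases (Nat.dvd_prime hs).mp (orderOf_dvd_of_pow_eq_one hcs) with e | e <;> rw [e]
          · exact Nat.coprime_one_left u
          · exact (Nat.coprime_primes hs hu).mpr d.us.symm)
        (core u L) (core_isPGroup u L) (core_normalizer u L (hPL hc))
        (fun y hy hyu => commute_iff_conj_eq.mp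
          (commute_of_mem_zpowers (hzc E hEL hE c hcE).symm (huniq y hy hyu)).symm) x hx)
    have hle : core u L ⊔ core s L ≤ Subgroup.centralizer {c} := sup_le
      (fun x hx => Subgroup.mem_centralizer_singleton_iff.mpr (hcU x hx).symm.eq)
      (fun x hx => Subgroup.mem_centralizer_singleton_iff.mpr (hcc x (hSP hx)).eq)
    have hA : c ∈ core u L ⊔ core s L := mem_of_commute_cores d.solv d.cores_le (hPL hc)
      fun x hx => (show Commute x c from Subgroup.mem_centralizer_singleton_iff.mp (hle hx)).symm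
    -- hence `c` lies in `O_s(L)`
    obtain ⟨a, ha, b, hb, e⟩ := CfsgLib.mem_sup_of_le_normalizer
      ((core_le s L).trans (core_normalizer u L)) hA
    have hab : Commute a b := core_commute hu hs d.us ha hb
    have ha1 : a = 1 := by
      obtain ⟨n, hn⟩ := core_isPGroup u L ⟨a, ha⟩
      have hn' : a ^ u ^ n = 1 := congrArg Subtype.val hn
      have h1 : a ^ s = 1 := by
        have h2 : a ^ s * b ^ s = 1 := by rw [← hab.mul_pow, e, hcs]
        have h3 : a ^ s ∈ core s L := by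
          rw [eq_inv_of_mul_eq_one_left h2]; exact inv_mem (pow_mem hb s)
        exact Subgroup.disjoint_def.mp (Subgroup.disjoint_of_coprime_natCard
          (coprime_card_of_isPGroup hu hs d.us (core_isPGroup u L) (core_isPGroup s L))) (pow_mem ha s) h3
      exact orderOf_eq_one_iff.mp (Nat.eq_one_of_dvd_coprimes (((Nat.coprime_primes hu hs).mpr d.us).pow_left n)
        (orderOf_dvd_of_pow_eq_one hn') (orderOf_dvd_of_pow_eq_one h1))
    rw [ha1, one_mul] at e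
    exact hcw (huniq' c (e ▸ hb) hcs)

theorem DataA.absurd (d : DataA σ r t u s R T L) : False := by
  obtain ⟨hr, ht, hu, hs⟩ := d.pr
  by_cases hb : core u L = ⊥ ∧ core s L = ⊥
  · obtain ⟨E, hEL, hE⟩ := d.hyp.rank s d.hs L d.is'
    obtain ⟨e, he, he'⟩ := hE.exists_notMem hs 1 (one_mem E)
    have h := mem_of_commute_cores d.solv (A := ⊥) (fun p hp => by
      have := d.cores_le p hp
      rwa [hb.1, hb.2, sup_bot_eq] at this) (hEL he)
      (fun x hx => by rw [Subgroup.mem_bot.mp hx]; exact Commute.one_right e)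
    exact he' (by rw [Subgroup.mem_bot.mp h]; exact one_mem _)
  rcases not_and_or.mp hb with h | h
  · by_cases h2 : core s L = ⊥
    · exact d.absurd_core h (Or.inl h2)
    · by_cases hu2 : u = 2
      · exact d.swapUS.absurd_core h2 (Or.inr fun e => d.us (hu2.trans e.symm))
      · exact d.absurd_core h (Or.inr hu2)
  · by_cases h2 : core u L = ⊥
    · exact d.swapUS.absurd_core h (Or.inl h2)
    · by_cases hu2 : u = 2
      · exact d.swapUS.absurd_core h (Or.inr fun e => d.us (hu2.trans e.symm))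
      · exact d.absurd_core h2 (Or.inr hu2)

end CfsgLib.FourPrimes
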