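import Cfsg.Agent.Lib.FourPrimes.CaseA
import Cfsg.Agent.Lib.HallPi

/-!
A three-prime group `K` acting faithfully and coprimely on an `r`-group.
-/

set_option autoImplicit false

namespace CfsgLib.FourPrimes

open Cfsg Subgroup

universe u
variable {G : Type u} [Group G] [Finite G] {σ : Finset ℕ}

/-- The data of case B. -/
structure DataB (σ : Finset ℕ) (r t u s : ℕ) (R K : Subgroup G) : Prop where
  hyp : Hyp G σ
  hr : r ∈ σ
  ht : t ∈ σ
  hu : u ∈ σ
  hs : s ∈ σ
  rt : r ≠ t
  ru : r ≠ u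
  rs : r ≠ s
  tu : t ≠ u
  ts : t ≠ s
  us : u ≠ s
  Rp : IsPGroup r R
  Rne : R ≠ ⊥
  KR : K ≤ Subgroup.normalizer (R : Set G)
  faith : ∀ k ∈ K, (∀ x ∈ R, Commute k x) → k = 1
  solv : Group.IsSolvable K
  supp : ∀ p : ℕ, p.Prime → p ∣ Nat.card K → p = t ∨ p = u ∨ p = s
  it : ¬ t ∣ K.index
  iu : ¬ u ∣ K.index
  is' : ¬ s ∣ K.index

variable {r t u s : ℕ} {R K : Subgroup G}

theorem DataB.swapTU (d : DataB σ r t u s R K) : DataB σ r u t s R K :=
  ⟨d.hyp, d.hr, d.hu, d.ht, d.hs, d.ru, d.rt, d.rs, d.tu.symm, d.us, d.ts, d.Rp, d.Rne, d.KR, d.faith, d.solv,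
    fun p hp hd => by rcases d.supp p hp hd with h | h | h <;> simp [h], d.iu, d.it, d.is'⟩

theorem DataB.pr (d : DataB σ r t u s R K) : r.Prime ∧ t.Prime ∧ u.Prime ∧ s.Prime :=
  ⟨d.hyp.prime r d.hr, d.hyp.prime t d.ht, d.hyp.prime u d.hu, d.hyp.prime s d.hs⟩

omit [Finite G] in
theorem conj_mem_zpowers_of_unique {p : ℕ} {z : G} {X H : Subgroup G} (hz : orderOf z = p) (hzX : z ∈ X)
    (hH : H ≤ Subgroup.normalizer (X : Set G))
    (huniq : ∀ x ∈ X, x ^ p = 1 → x ∈ Subgroup.zpowers z) : ∀ g ∈ H, g * z * g⁻¹ ∈ Subgroup.zpowers z :=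
  fun g hg => huniq _ (conj_mem_of_normalizer (hH hg) hzX)
    (by rw [conj_pow, ← hz, pow_orderOf_eq_one, mul_one, mul_inv_cancel])

/-- An elementary group of order `p²` does not fit into a subgroup with a unique subgroup of order `p`. -/
theorem IsE.not_le_unique {p : ℕ} {E : Subgroup G} (hE : IsE p E) (hp : p.Prime) {X : Subgroup G} {z : G}
    (hz : _root_.orderOf z = p) (huniq : ∀ x ∈ X, x ^ p = 1 → x ∈ Subgroup.zpowers z) : ¬ E ≤ X := by
  intro hle
  have h1 := Nat.le_of_dvd Nat.card_pos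
    (Subgroup.card_dvd_of_le (K := Subgroup.zpowers z) fun e he => huniq e (hle he) (hE.2.1 e he))
  rw [hE.2.2, Nat.card_zpowers, hz] at h1
  nlinarith [hp.two_le]

/-- Some element of a group of order `p²` fixes a given element of prime order whose cyclic group it
normalises. -/
theorem IsE.exists_commute {p q : ℕ} {E : Subgroup G} (hE : IsE p E) (hp : p.Prime) (hq : q.Prime)
    (hne : p ≠ q) {z : G} (hz : _root_.orderOf z = q) (hn : ∀ g ∈ E, g * z * g⁻¹ ∈ Subgroup.zpowers z) :
    ∃ e ∈ E, e ≠ 1 ∧ Commute e z := by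
  have hEn : E ≤ Subgroup.normalizer (Subgroup.zpowers z : Set G) := fun g hg => mem_normalizer_of_conj
    fun x hx => by
      obtain ⟨i, rfl⟩ := Subgroup.mem_zpowers_iff.mp hx
      rw [← conj_zpow]; exact zpow_mem (hn g hg) i
  obtain ⟨e, he, he1, k, hk, hk1, hek⟩ := hE.exists_fix hp hEn
    (by rw [Nat.card_zpowers, hz]; exact fun h => hne ((Nat.prime_dvd_prime_iff_eq hp hq).mp h))
    (Subgroup.zpowers_ne_bot.mpr fun e => hq.ne_one (by rw [← hz, e, orderOf_one]))
  exact ⟨e, he, he1, (commute_of_mem_zpowers hek.symm (mem_zpowers_symm hq hz hk hk1)).symm⟩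

theorem DataB.core_le_hall (d : DataB σ r t u s R K) {H : Subgroup G} (hHK : H ≤ K)
    (hH : ¬ t ∣ H.relIndex K) : core t K ≤ H := by
  obtain ⟨-, ht, -, -⟩ := d.pr
  have := Fact.mk ht
  obtain ⟨P, hPH, hP, hPi, -⟩ := exists_sylowIn ht H
  have hPK : P ≤ K := hPH.trans hHK
  have hi : ¬ t ∣ (P.subgroupOf K).index := fun h => by
    change t ∣ P.relIndex K at h
    rw [← Subgroup.relIndex_mul_relIndex P H K hPH hHK] at h
    exact (ht.dvd_mul.mp h).elim hPi hH
  let S : Sylow t K := (hP.of_equiv (Subgroup.subgroupOfEquivOfLe hPK).symm).toSylow hi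
  intro x hx
  obtain ⟨y, hy, rfl⟩ := hx
  exact hPH (pCore_le_sylow S hy)

/-! ### Two cores, the first with a unique subgroup of order `t`, the second with `u²`. -/

/-- A `t`-element outside `⟨x⟩` does not commute with an `s`-element that centralises `x`. -/
theorem DataB.lemmaY (d : DataB σ r t u s R K) {x y e : G} (hxT : x ∈ core t K) (hx : orderOf x = t)
    (hfpf : ∀ v ∈ R, Commute x v → v = 1) (hU : core u K ≠ ⊥)
    (hes : ∀ f ∈ K, IsPEl s f → Commute f x → ∀ z ∈ core u K, Commute f z → z = 1)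
    (hy : y ∈ K) (hyo : y ^ t = 1) (hyx : y ∉ Subgroup.zpowers x) (hxy : Commute x y) (he : e ∈ K)
    (heo : orderOf e = s) (hex : Commute e x) (hey : Commute e y) : False := by
  obtain ⟨hr, ht, hu, hs⟩ := d.pr
  have := Fact.mk hr
  obtain ⟨A, hA, hxA, hyA, hmin⟩ := exists_isE ht hx hyo hxy hyx
  have hAK : A ≤ K := hmin K (core_le t K hxT) hy
  obtain ⟨a, ha, ha1, v, hv, hv1, hav⟩ := hA.exists_fix ht (hAK.trans d.KR)
    (not_dvd_card_of_isPGroup ht hr d.rt.symm d.Rp) d.Rne
  have hea : Commute e a := by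
    have h : A ≤ Subgroup.centralizer {e} := hmin _ (Subgroup.mem_centralizer_singleton_iff.mpr hex.symm.eq)
      (Subgroup.mem_centralizer_singleton_iff.mpr hey.symm.eq)
    exact (show Commute a e from Subgroup.mem_centralizer_singleton_iff.mp (h ha)).symm
  have hao : orderOf a = t := hA.orderOf ht ha ha1
  have hep : IsPEl s e := IsPEl.of_orderOf hs heo
  have hfe : ∀ z ∈ core u K, Commute e z → z = 1 := hes e he hep hex
  have hta : ∀ w ∈ R, Commute a w → Commute e w → w = 1 := fun w hw h1 h2 => by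
    by_contra hw1
    exact d.hyp.tri' d.hs d.ht d.hr d.ts.symm d.rt.symm d.rs.symm hep (hA.pel ha ha1)
      (IsPEl.of_mem d.Rp hw hw1) hea h1 h2
  by_cases hU' : core u K ⊓ Subgroup.centralizer {a} = ⊥
  · -- `⟨a e⟩` is semiregular on `O_u(K)`
    have hae : Commute a e := hea.symm
    have hcs : s.Coprime t := (Nat.coprime_primes hs ht).mpr d.ts.symm
    have hap : ∀ n : ℕ, a ^ n ≠ 1 → a ∈ Subgroup.zpowers ((a * e) ^ (n * s)) := by
      intro n hn
      have h1 : (a * e) ^ (n * s) = a ^ (n * s) := by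
        rw [hae.mul_pow, mul_comm n s, pow_mul e, ← heo, pow_orderOf_eq_one, one_pow, mul_one]
      rw [h1]
      refine mem_zpowers_symm ht hao (pow_mem (Subgroup.mem_zpowers a) _) fun e' => hn ?_
      rw [pow_mul] at e'
      exact orderOf_eq_one_iff.mp (Nat.eq_one_of_dvd_coprimes hcs (orderOf_dvd_of_pow_eq_one e')
        (orderOf_dvd_of_pow_eq_one (by rw [pow_right_comm, ← hao, pow_orderOf_eq_one, one_pow])))
    obtain ⟨z, hz, hz1⟩ := (Subgroup.bot_or_exists_ne_one (core u K)).resolve_left hU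
    refine hz1 (d.faith z (core_le u K hz) fun w hw => commute_of_semiregular (g := a * e) d.Rp
      ((core_le u K).trans d.KR) (d.KR (K.mul_mem (hAK ha) he))
      (core_normalizer u K (K.mul_mem (hAK ha) he))
      (coprime_card_of_isPGroup hu hr d.ru.symm (core_isPGroup u K) d.Rp) ?_ ?_ ?_ z hz w hw)
    · rw [hae.orderOf_mul_eq_mul_orderOf_of_coprime (by rw [hao, heo]; exact hcs.symm), hao, heo]
      exact Nat.Coprime.mul_left (ht.coprime_iff_not_dvd.mpr (not_dvd_card_of_isPGroup ht hr d.rt.symm d.Rp))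
        (hs.coprime_iff_not_dvd.mpr (not_dvd_card_of_isPGroup hs hr d.rs.symm d.Rp))
    · intro n hn w hw hc
      by_cases han : a ^ n = 1
      · have h1 : (a * e) ^ n = e ^ n := by rw [hae.mul_pow, han, one_mul]
        rw [h1] at hn hc
        exact hfe w hw (commute_of_mem_zpowers hc (mem_zpowers_symm hs heo (pow_mem (Subgroup.mem_zpowers e) n) hn))
      · have h1 : Commute a w := commute_of_mem_zpowers (a := (a * e) ^ (n * s))
          (by rw [pow_mul]; exact hc.pow_left s) (hap n han)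
        exact Subgroup.mem_bot.mp (hU' ▸ mem_fix.mpr ⟨hw, h1⟩)
    · intro w hw hc
      have h1 : Commute a w := commute_of_mem_zpowers (a := (a * e) ^ (1 * s)) (hc.pow_left _)
        (hap 1 (by rwa [pow_one]))
      refine hta w hw h1 ?_
      have h2 := h1.inv_left.mul_left hc
      rwa [inv_mul_cancel_left] at h2
  · obtain ⟨z, hz, hz1⟩ := (Subgroup.bot_or_exists_ne_one _).resolve_left hU'
    obtain ⟨hzU, haz⟩ := mem_fix.mp hz
    have hW : ∀ g ∈ K, Commute g a →
        g ∈ Subgroup.normalizer ((R ⊓ Subgroup.centralizer {a} : Subgroup G) : Set G) :=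
      fun g hg hga => normalizer_fix_of_commute (d.KR hg) hga
    have hzv := commute_of_semiregular (R := R ⊓ Subgroup.centralizer {a})
      (U := core u K ⊓ Subgroup.centralizer {a}) (g := e) (d.Rp.to_le inf_le_left)
      (fun w hw => hW w (core_le u K hw.1) (mem_fix.mp hw).2.symm) (hW e he hea)
      (normalizer_fix_of_commute (core_normalizer u K he) hea)
      (coprime_card_of_isPGroup hu hr d.ru.symm ((core_isPGroup u K).to_le inf_le_left) (d.Rp.to_le inf_le_left))
      (by rw [heo]; exact hs.coprime_iff_not_dvd.mpr (not_dvd_card_of_isPGroup hs hr d.rs.symm (d.Rp.to_le inf_le_left)))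
      (fun n hn w hw hc => hfe w hw.1
        (commute_of_mem_zpowers hc (mem_zpowers_symm hs heo (pow_mem (Subgroup.mem_zpowers e) n) hn)))
      (fun w hw hc => hta w hw.1 (mem_fix.mp hw).2 hc) z hz v (mem_fix.mpr ⟨hv, hav⟩)
    exact d.hyp.tri' d.ht d.hu d.hr d.tu d.ru.symm d.rt.symm (hA.pel ha ha1)
      (IsPEl.of_mem (core_isPGroup u K) hzU hz1) (IsPEl.of_mem d.Rp hv hv1) haz hzv hav

theorem DataB.absurd_mixed (d : DataB σ r t u s R K) {x : G} (hxT : x ∈ core t K) (hx : orderOf x = t)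
    (huniq : ∀ y ∈ core t K, y ^ t = 1 → y ∈ Subgroup.zpowers x) {EU : Subgroup G} (hEU : EU ≤ core u K)
    (hEUe : IsE u EU) : False := by
  obtain ⟨hr, ht, hu, hs⟩ := d.pr
  have := Fact.mk hu
  have hxK : x ∈ K := core_le t K hxT
  have hxU : ∀ z ∈ core u K, Commute x z := fun z hz => core_commute ht hu d.tu hxT hz
  have hxn := conj_mem_zpowers_of_unique hx hxT (core_normalizer t K) huniq
  have hxp : IsPEl t x := IsPEl.of_orderOf ht hx
  have hUne : core u K ≠ ⊥ := fun e => by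
    obtain ⟨b, hb, hb'⟩ := hEUe.exists_notMem hu 1 (one_mem EU)
    have hb1 : b ∈ core u K := hEU hb
    rw [e, Subgroup.mem_bot] at hb1
    exact hb' (by rw [hb1]; exact one_mem _)
  -- a triangle from a `t`-element fixing something in `R` and commuting with `EU`
  have hfixR : ∀ a ∈ K, IsPEl t a → (∀ z ∈ EU, Commute z a) → ∀ v ∈ R, Commute a v → v = 1 := by
    intro a ha hap haU v hv hc
    by_contra hv1
    obtain ⟨e, he, he1, k, hk, hk1, hek⟩ := hEUe.exists_fix hu (K := R ⊓ Subgroup.centralizer {a})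
      (fun g hg => normalizer_fix_of_commute (d.KR (core_le u K (hEU hg))) (haU g hg))
      (not_dvd_card_of_isPGroup hu hr d.ru.symm (d.Rp.to_le inf_le_left))
      (fun e => hv1 (Subgroup.mem_bot.mp (e ▸ mem_fix.mpr ⟨hv, hc⟩)))
    exact d.hyp.tri' d.hu d.ht d.hr d.tu.symm d.rt.symm d.ru.symm (hEUe.pel he he1) hap
      (IsPEl.of_mem d.Rp hk.1 hk1) (haU e he) (mem_fix.mp hk).2 hek
  have hfpf := hfixR x hxK hxp fun z hz => (hxU z (hEU hz)).symm
  have hes : ∀ f ∈ K, IsPEl s f → Commute f x → ∀ z ∈ core u K, Commute f z → z = 1 := by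
    intro f _ hf hfx z hz hfz
    by_contra hz1
    exact d.hyp.tri' d.hs d.ht d.hu d.ts.symm d.tu d.us.symm hf hxp (IsPEl.of_mem (core_isPGroup u K) hz hz1)
      hfx (hxU z hz) hfz
  obtain ⟨H, hHK, hHsupp, hHi⟩ := CfsgLib.exists_isPiHallOf ({t, s} : Set ℕ) (M := K) d.solv
  have hHs : Group.IsSolvable H := by
    have := d.solv
    exact Group.isSolvable_of_isSolvable_injective (f := Subgroup.inclusion hHK) (Subgroup.inclusion_injective hHK)
  obtain ⟨E, hEH, hE⟩ := d.hyp.rank s d.hs H (not_dvd_index_of hs hHK (hHi s hs (Or.inr rfl)) d.is')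
  obtain ⟨e, he, he1, hex⟩ := hE.exists_commute hs ht d.ts.symm hx fun g hg => hxn g (hHK (hEH hg))
  have heo := hE.orderOf hs he he1
  have hnotall : ∀ F : Subgroup G, F ≤ K → IsE s F → ∃ g ∈ F, ¬ Commute g x := by
    intro F hFK hF
    by_contra hno
    push Not at hno
    obtain ⟨f, hf, hf1, z, hz, hz1, hfz⟩ := hF.exists_fix hs (hFK.trans (core_normalizer u K))
      (not_dvd_card_of_isPGroup hs hu d.us.symm (core_isPGroup u K)) hUne
    exact hz1 (hes f (hFK hf) (hF.pel hf hf1) (hno f hf) z hz hfz)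
  obtain ⟨g₀, hg₀, hg₀x⟩ := hnotall E (hEH.trans hHK) hE
  set Q := core t H with hQ
  have hTQ : core t K ≤ Q := le_core (d.core_le_hall hHK (hHi t ht (Or.inl rfl)))
    (hHK.trans (core_normalizer t K)) (core_isPGroup t K)
  have hQp : IsPGroup t Q := core_isPGroup t H
  have hQK : Q ≤ K := (core_le t H).trans hHK
  have hxQ : ∀ y ∈ Q, Commute y x := fun y hy => commute_of_normal_prime ht hQp hy hx (hxn y (hQK hy))
  -- `e` centralises `Q`
  have heQ : Q ≤ Subgroup.centralizer {e} := by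
    refine hE.gen_le hs (hEH.trans (core_normalizer t H)) (not_dvd_card_of_isPGroup hs ht d.ts.symm hQp)
      fun g hg hg1 k hk hgk => ?_
    rw [Subgroup.mem_centralizer_singleton_iff]
    by_cases hge : g ∈ Subgroup.zpowers e
    · exact (commute_of_mem_zpowers hgk (mem_zpowers_symm hs heo hge hg1)).symm.eq
    · suffices hk1 : k = 1 by rw [hk1, one_mul, mul_one]
      by_contra hk1
      have hgx : ¬ Commute g x := fun h => hg₀x (hE.commute_all hs he hg he1 hge hex h g₀ hg₀)
      set V := Q ⊓ Subgroup.centralizer {g} with hV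
      have hVfix : ∀ v ∈ V, ∀ f : G, v ≠ 1 → ∃ y, y ∈ V ∧ y ^ t = 1 ∧ y ∉ Subgroup.zpowers x ∧
          (Commute f v → Commute f y) := by
        intro v hv f hv1
        obtain ⟨n, hn⟩ := (IsPEl.of_mem hQp hv.1 hv1).exists_orderOf ht
        refine ⟨v ^ n, pow_mem hv n, by rw [← hn, pow_orderOf_eq_one], fun hmem => hgx ?_, fun h => h.pow_right n⟩
        have h1 : Commute g (v ^ n) := (mem_fix.mp (pow_mem hv n)).2
        exact (commute_of_mem_zpowers h1.symm (mem_zpowers_symm ht hx hmem fun e' => ht.ne_one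
          (by rw [← hn, e', orderOf_one]))).symm
      have hefpf : ∀ v ∈ V, Commute e v → v = 1 := by
        intro v hv hc
        by_contra hv1
        obtain ⟨y, hy, hyt, hyx, hcy⟩ := hVfix v hv e hv1
        exact d.lemmaY hxT hx hfpf hUne hes (hQK hy.1) hyt hyx (hxQ y hy.1).symm (hHK (hEH he)) heo hex (hcy hc)
      have hVU := commute_of_semiregular (U := V) (g := e) (core_isPGroup u K)
        (fun v hv => core_normalizer u K (hQK hv.1)) (core_normalizer u K (hHK (hEH he)))
        (normalizer_fix_of_commute (core_normalizer t H (hEH he)) (hE.1 e he g hg))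
        (coprime_card_of_isPGroup ht hu d.tu (hQp.to_le inf_le_left) (core_isPGroup u K))
        (by rw [heo]; exact hs.coprime_iff_not_dvd.mpr (not_dvd_card_of_isPGroup hs hu d.us.symm (core_isPGroup u K)))
        (fun n hn w hw hc => hefpf w hw
          (commute_of_mem_zpowers hc (mem_zpowers_symm hs heo (pow_mem (Subgroup.mem_zpowers e) n) hn)))
        (fun z hz hc => hes e (hHK (hEH he)) (IsPEl.of_orderOf hs heo) hex z hz hc)
      obtain ⟨y, hy, hyt, hyx, -⟩ := hVfix k (mem_fix.mpr ⟨hk, hgk⟩) e hk1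
      obtain ⟨A, hA, hxA, hyA, hmin⟩ := exists_isE ht hx hyt (hxQ y hy.1).symm hyx
      have hAK : A ≤ K := hmin K hxK (hQK hy.1)
      have hAU : A ≤ Subgroup.centralizer (EU : Set G) := hmin _
        (fun z hz => ((hxU z (hEU hz)).symm).eq) (fun z hz => (hVU y hy z (hEU hz)).symm.eq)
      obtain ⟨a, ha, ha1, v, hv, hv1, hav⟩ := hA.exists_fix ht (hAK.trans d.KR)
        (not_dvd_card_of_isPGroup ht hr d.rt.symm d.Rp) d.Rne
      exact hv1 (hfixR a (hAK ha) (hA.pel ha ha1) (fun z hz => hAU ha z hz) v hv hav)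
  have hsne : core s H ≠ ⊥ := by
    intro hbot
    have h := mem_of_commute_cores hHs (A := Q) (fun p hp => by
      by_cases hd : p ∣ Nat.card H
      · rcases hHsupp p hp hd with rfl | h
        · exact le_rfl
        · rw [show p = s from h, hbot]; exact bot_le
      · rw [core_eq_bot hp hd]; exact bot_le) (hEH he)
      (fun y hy => (show Commute y e from Subgroup.mem_centralizer_singleton_iff.mp (heQ hy)).symm)
    exact d.ts ((IsPEl.of_mem hQp h he1).ne_of ht hs (IsPEl.of_orderOf hs heo))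
  obtain ⟨e₁, he₁, he₁o⟩ := exists_omZ hs (core_isPGroup s H) hsne
  have hMx : ∀ m ∈ core s H, Commute m x := fun m hm => core_commute hs ht d.ts.symm hm (hTQ hxT)
  have he₁n : ∀ h ∈ H, h * e₁ * h⁻¹ ∈ Subgroup.zpowers e₁ := by
    intro h hh
    have hm : h * e₁ * h⁻¹ ∈ omZ s (core s H) := conj_mem_of_normalizer (omZ_normalizer (core_normalizer s H hh)) he₁
    by_contra hne
    obtain ⟨F, hF, -, -, hmin⟩ := exists_isE hs he₁o hm.2.1 (he₁.2.2 _ hm.1) hne
    have hFs : F ≤ core s H := hmin _ he₁.1 hm.1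
    obtain ⟨f, hf, hfx⟩ := hnotall F (hFs.trans ((core_le s H).trans hHK)) hF
    exact hfx (hMx f (hFs hf))
  obtain ⟨ET, hET, hETe⟩ := d.hyp.rank t d.ht H (not_dvd_index_of ht hHK (hHi t ht (Or.inl rfl)) d.it)
  obtain ⟨y, hy, hyx⟩ : ∃ y ∈ ET, y ∉ Subgroup.zpowers x := by
    by_contra hno
    push Not at hno
    exact hETe.not_le_unique ht hx (X := Subgroup.zpowers x) (fun _ h _ => h) hno
  have hyK : y ∈ K := hHK (hET hy)
  have hyxc : Commute x y := by
    by_contra hne
    exact lt_irrefl t (lt_of_moves ht ht hx (hxn y hyK) (n := 1) (by rw [pow_one]; exact hETe.2.1 y hy)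
      fun h => hne h.symm)
  have hlt : t < s := lt_of_moves ht hs he₁o (he₁n y (hET hy)) (n := 1) (by rw [pow_one]; exact hETe.2.1 y hy)
    fun h => d.lemmaY hxT hx hfpf hUne hes hyK (hETe.2.1 y hy) hyx hyxc (hHK (core_le s H he₁.1)) he₁o
      (hMx e₁ he₁.1) h.symm
  have hgt : s < t := lt_of_moves hs ht hx (hxn g₀ (hHK (hEH hg₀))) (n := 1)
    (by rw [pow_one]; exact hE.2.1 g₀ hg₀) hg₀x
  omega

/-! ### Two cores, both with a unique subgroup of prime order. -/

theorem DataB.absurd_unique (d : DataB σ r t u s R K) (hlt : t < u)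
    (hAle : ∀ p : ℕ, p.Prime → core p K ≤ core t K ⊔ core u K)
    {x : G} (hxT : x ∈ core t K) (hx : orderOf x = t)
    (hxu : ∀ y ∈ core t K, y ^ t = 1 → y ∈ Subgroup.zpowers x)
    {z : G} (hzU : z ∈ core u K) (hz : orderOf z = u)
    (hzu : ∀ y ∈ core u K, y ^ u = 1 → y ∈ Subgroup.zpowers z) : False := by
  obtain ⟨hr, ht, hu, hs⟩ := d.pr
  have := Fact.mk ht
  have := Fact.mk hu
  have hu2 : u ≠ 2 := by have := ht.two_le; omega
  have hxn := conj_mem_zpowers_of_unique hx hxT (core_normalizer t K) hxu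
  have hzn := conj_mem_zpowers_of_unique hz hzU (core_normalizer u K) hzu
  have hxz : Commute x z := core_commute ht hu d.tu hxT hzU
  have htri : ∀ f : G, IsPEl s f → Commute f x → Commute f z → False := fun f hf h1 h2 =>
    d.hyp.tri' d.hs d.ht d.hu d.ts.symm d.tu d.us.symm hf (IsPEl.of_orderOf ht hx) (IsPEl.of_orderOf hu hz) h1 hxz h2
  obtain ⟨E, hEK, hE⟩ := d.hyp.rank s d.hs K d.is'
  have ht2 : t ≠ 2 := by
    intro h2
    obtain ⟨f, hf, hf1, hfz⟩ := hE.exists_commute hs hu d.us.symm hz fun g hg => hzn g (hEK hg)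
    refine htri f (hE.pel hf hf1) (by
      by_contra hne
      have h := lt_of_moves hs ht hx (hxn f (hEK hf)) (n := 1) (by rw [pow_one]; exact hE.2.1 f hf) hne
      have := hs.two_le
      omega) hfz
  obtain ⟨P, hPK, hP, hPi, hUP⟩ := exists_sylowIn hu K
  have hPx : ∀ a ∈ P, Commute a x := fun a ha => by
    by_contra hne
    obtain ⟨n, hn⟩ := hP ⟨a, ha⟩
    have := lt_of_moves hu ht hx (hxn a (hPK ha)) (congrArg Subtype.val hn) hne
    omega
  have hPz : ∀ a ∈ P, Commute a z := fun a ha => commute_of_normal_prime hu hP ha hz (hzn a (hPK ha))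
  have hPT : ∀ a ∈ P, ∀ y ∈ core t K, Commute a y := fun a ha y hy => commute_iff_conj_eq.mpr
    (centralizes_of_fixes_order_p ht2 a (by
        obtain ⟨n, hn⟩ := hP ⟨a, ha⟩
        exact Nat.Coprime.coprime_dvd_left (orderOf_dvd_of_pow_eq_one (congrArg Subtype.val hn : a ^ u ^ n = 1))
          (((Nat.coprime_primes hu ht).mpr d.tu.symm).pow_left n))
      (core t K) (core_isPGroup t K) (core_normalizer t K (hPK ha))
      (fun w hw hwt => commute_iff_conj_eq.mp (commute_of_mem_zpowers (hPx a ha).symm (hxu w hw hwt)).symm) y hy)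
  set D := K ⊓ Subgroup.centralizer (core t K : Set G) ⊓ Subgroup.centralizer {z} with hD
  have memD : ∀ g, g ∈ D ↔ g ∈ K ∧ (∀ y ∈ core t K, Commute g y) ∧ Commute g z := fun g => by
    rw [hD, Subgroup.mem_inf, Subgroup.mem_inf, Subgroup.mem_centralizer_singleton_iff, Subgroup.mem_centralizer_iff]
    exact ⟨fun h => ⟨h.1.1, fun y hy => (h.1.2 y hy).symm, h.2⟩,
      fun h => ⟨⟨h.1, fun y hy => (h.2.1 y hy).symm⟩, h.2.2⟩⟩
  have hPD : P ≤ D := fun a ha => (memD a).mpr ⟨hPK ha, hPT a ha, hPz a ha⟩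
  have hDn : ∀ k ∈ K, ∀ g ∈ D, k * g * k⁻¹ ∈ D := by
    intro k hk g hg
    obtain ⟨hgK, hgT, hgz⟩ := (memD g).mp hg
    refine (memD _).mpr ⟨K.mul_mem (K.mul_mem hk hgK) (K.inv_mem hk), fun y hy => ?_, ?_⟩
    · have h := commute_conj (g := k) (hgT _ (conj_mem_of_normalizer (core_normalizer t K (K.inv_mem hk)) hy))
      simpa [mul_assoc] using h
    · have h := commute_conj (g := k) (commute_of_mem_zpowers hgz.symm (hzn k⁻¹ (K.inv_mem hk))).symm
      simpa [mul_assoc] using h
  -- `t`-elements of `D` lie in `O_t(K)`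
  have hDt : ∀ g ∈ D, IsPEl t g → g ∈ core t K := by
    intro g hg hgp
    obtain ⟨hgK, hgT, hgz⟩ := (memD g).mp hg
    obtain ⟨n, hn⟩ := hgp.2
    have hcop : (orderOf g).Coprime u := Nat.Coprime.coprime_dvd_left (orderOf_dvd_of_pow_eq_one hn)
      (((Nat.coprime_primes ht hu).mpr d.tu).pow_left n)
    have hgU : ∀ y ∈ core u K, Commute g y := fun y hy => commute_iff_conj_eq.mpr
      (centralizes_of_fixes_order_p hu2 g hcop (core u K) (core_isPGroup u K) (core_normalizer u K hgK)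
        (fun w hw hwu => commute_iff_conj_eq.mp (commute_of_mem_zpowers hgz.symm (hzu w hw hwu)).symm) y hy)
    have hle : core t K ⊔ core u K ≤ Subgroup.centralizer {g} := sup_le
      (fun y hy => Subgroup.mem_centralizer_singleton_iff.mpr (hgT y hy).symm.eq)
      (fun y hy => Subgroup.mem_centralizer_singleton_iff.mpr (hgU y hy).symm.eq)
    have hgm := mem_of_commute_cores d.solv hAle hgK
      fun y hy => (show Commute y g from Subgroup.mem_centralizer_singleton_iff.mp (hle hy)).symm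
    obtain ⟨a, ha, b, hb, e⟩ := CfsgLib.mem_sup_of_le_normalizer
      ((core_le u K).trans (core_normalizer t K)) hgm
    have hb1 : b = 1 := by
      obtain ⟨m, hm⟩ := core_isPGroup u K ⟨b, hb⟩
      have hm' : b ^ u ^ m = 1 := congrArg Subtype.val hm
      have h1 : b ^ t ^ n ∈ core t K := by
        have h2 : a ^ t ^ n * b ^ t ^ n = 1 := by rw [← (core_commute ht hu d.tu ha hb).mul_pow, e, hn]
        rw [eq_inv_of_mul_eq_one_right h2]
        exact inv_mem (pow_mem ha _)
      have h3 := Subgroup.disjoint_def.mp (Subgroup.disjoint_of_coprime_natCard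
        (coprime_card_of_isPGroup ht hu d.tu (core_isPGroup t K) (core_isPGroup u K))) h1 (pow_mem hb _)
      exact orderOf_eq_one_iff.mp (Nat.eq_one_of_dvd_coprimes (((Nat.coprime_primes hu ht).mpr d.tu.symm).pow m n)
        (orderOf_dvd_of_pow_eq_one hm') (orderOf_dvd_of_pow_eq_one h3))
    rw [hb1, mul_one] at e
    exact e ▸ ha
  -- `D` normalises `P`
  set N := D ⊓ Subgroup.normalizer (P : Set G) with hN
  have hPN : P ≤ N := le_inf hPD Subgroup.le_normalizer
  have hDK : D ≤ K := fun g hg => ((memD g).mp hg).1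
  have hDN : D ≤ N := by
    rw [← Subgroup.relIndex_eq_one]
    by_contra hne
    obtain ⟨q, hq, hqd⟩ := Nat.exists_prime_and_dvd hne
    have := Fact.mk hq
    have hqD : q ∣ Nat.card D := hqd.trans
      (dvd_trans (Dvd.intro_left _ (CfsgLib.card_mul_relIndex (inf_le_left : N ≤ D))) dvd_rfl)
    rcases d.supp q hq (hqD.trans (Subgroup.card_dvd_of_le hDK)) with h | h | h
    · subst h
      obtain ⟨Q, hQD, hQ, hQi, -⟩ := exists_sylowIn hq D
      have hQN : Q ≤ N := fun g hg => by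
        refine ⟨hQD hg, mem_normalizer_of_conj fun a ha => ?_⟩
        by_cases hg1 : g = 1
        · subst hg1; simpa using ha
        · have h := hPT a ha g (hDt g (hQD hg) (IsPEl.of_mem hQ hg hg1))
          rwa [commute_iff_conj_eq.mp h.symm]
      exact hQi (hqd.trans (Subgroup.relIndex_dvd_of_le_left D hQN))
    · subst h
      exact hPi ((hqd.trans (Subgroup.relIndex_dvd_of_le_left D hPN)).trans
        (Dvd.intro _ (Subgroup.relIndex_mul_relIndex P D K hPD hDK)))
    · subst h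
      obtain ⟨g, hg⟩ := exists_prime_orderOf_dvd_card' (G := D) q hqD
      have hgo : orderOf (g : G) = q := by rw [Subgroup.orderOf_coe, hg]
      obtain ⟨-, hgT, hgz⟩ := (memD g).mp g.2
      exact htri g (IsPEl.of_orderOf hq hgo) (hgT x hxT) hgz
  -- hence `P` is normal in `K`
  let S : Sylow u K := (hP.of_equiv (Subgroup.subgroupOfEquivOfLe hPK).symm).toSylow hPi
  have hKP : K ≤ Subgroup.normalizer (P : Set G) := fun k hk => mem_normalizer_of_conj fun a ha => by
    set c := k * a * k⁻¹ with hc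
    have hcD : c ∈ D := hDn k hk a (hPD ha)
    have hcp : IsPGroup u (Subgroup.zpowers c) := by
      obtain ⟨n, hn⟩ := hP ⟨a, ha⟩
      have hcn : c ^ u ^ n = 1 := by
        rw [hc, conj_pow, show a ^ u ^ n = 1 from congrArg Subtype.val hn, mul_one, mul_inv_cancel]
      rintro ⟨b, hb⟩
      obtain ⟨i, rfl⟩ := Subgroup.mem_zpowers_iff.mp hb
      refine ⟨n, Subtype.ext ?_⟩
      show (c ^ i) ^ u ^ n = 1
      rw [← zpow_natCast (c ^ i), ← zpow_mul, mul_comm, zpow_mul, zpow_natCast, hcn, one_zpow]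
    have hsup : IsPGroup u (Subgroup.zpowers c ⊔ P : Subgroup G) :=
      IsPGroup.to_sup_of_normal_right' hcp hP (Subgroup.zpowers_le.mpr (hDN hcD).2)
    have hle : (Subgroup.zpowers c ⊔ P : Subgroup G) ≤ K := sup_le (Subgroup.zpowers_le.mpr (hDK hcD)) hPK
    have heq : ((Subgroup.zpowers c ⊔ P : Subgroup G).subgroupOf K) = (S : Subgroup K) :=
      S.3 (hsup.of_equiv (Subgroup.subgroupOfEquivOfLe hle).symm) (fun g hg => Subgroup.mem_sup_right hg)
    have hmem : (⟨c, hDK hcD⟩ : K) ∈ (S : Subgroup K) := heq ▸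
      (Subgroup.mem_sup_left (Subgroup.mem_zpowers c) :)
    exact hmem
  have hPU : P ≤ core u K := le_core hPK hKP hP
  obtain ⟨EU, hEU, hEUe⟩ := d.hyp.rank u d.hu P (not_dvd_index_of hu hPK hPi d.iu)
  exact hEUe.not_le_unique hu hz hzu (hEU.trans hPU)

/-- The case of two non-trivial cores in `K`. -/
theorem DataB.absurd_two (d : DataB σ r t u s R K) (hT : core t K ≠ ⊥) (hU : core u K ≠ ⊥)
    (hS : core s K = ⊥) : False := by
  obtain ⟨hr, ht, hu, hs⟩ := d.pr
  have hAle : ∀ p : ℕ, p.Prime → core p K ≤ core t K ⊔ core u K := fun p hp => by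
    by_cases hd : p ∣ Nat.card K
    · rcases d.supp p hp hd with rfl | rfl | rfl
      exacts [le_sup_left, le_sup_right, hS.le.trans bot_le]
    · rw [core_eq_bot hp hd]; exact bot_le
  rcases unique_or_isE ht (core_isPGroup t K) hT with ⟨ET, hET, hETe⟩ | ⟨x, hxT, hx, hxu⟩
  · rcases unique_or_isE hu (core_isPGroup u K) hU with ⟨EU, hEU, hEUe⟩ | ⟨z, hzU, hz, hzu⟩
    · obtain ⟨e, he, he1, v, hv, hv1, hev⟩ := hETe.exists_fix ht ((hET.trans (core_le t K)).trans d.KR)
        (not_dvd_card_of_isPGroup ht hr d.rt.symm d.Rp) d.Rne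
      obtain ⟨f, hf, hf1, k, hk, hk1, hfk⟩ := hEUe.exists_fix hu (K := R ⊓ Subgroup.centralizer {e})
        (fun g hg => normalizer_fix_of_commute (d.KR (core_le u K (hEU hg)))
          (core_commute hu ht d.tu.symm (hEU hg) (hET he)))
        (not_dvd_card_of_isPGroup hu hr d.ru.symm (d.Rp.to_le inf_le_left))
        (fun b => hv1 (Subgroup.mem_bot.mp (b ▸ mem_fix.mpr ⟨hv, hev⟩)))
      exact d.hyp.tri' d.hu d.ht d.hr d.tu.symm d.rt.symm d.ru.symm (hEUe.pel hf hf1) (hETe.pel he he1)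
        (IsPEl.of_mem d.Rp hk.1 hk1) (core_commute hu ht d.tu.symm (hEU hf) (hET he)) (mem_fix.mp hk).2 hfk
    · exact d.swapTU.absurd_mixed hzU hz hzu hET hETe
  · rcases unique_or_isE hu (core_isPGroup u K) hU with ⟨EU, hEU, hEUe⟩ | ⟨z, hzU, hz, hzu⟩
    · exact d.absurd_mixed hxT hx hxu hEU hEUe
    · rcases lt_or_gt_of_ne d.tu with h | h
      · exact d.absurd_unique h hAle hxT hx hxu hzU hz hzu
      · exact d.swapTU.absurd_unique h (fun p hp => sup_comm (core t K) (core u K) ▸ hAle p hp)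
          hzU hz hzu hxT hx hxu

/-! ### One core. -/

/-- `K` has the single core `O_t(K)`, and `L` is its Hall `{u,s}`-subgroup. -/
structure DataC (σ : Finset ℕ) (r t u s : ℕ) (R K L : Subgroup G) : Prop where
  base : DataB σ r t u s R K
  LK : L ≤ K
  solvL : Group.IsSolvable L
  suppL : ∀ p : ℕ, p.Prime → p ∣ Nat.card L → p = u ∨ p = s
  iLu : ¬ u ∣ L.index
  iLs : ¬ s ∣ L.index
  Tne : core t K ≠ ⊥
  Ubot : core u K = ⊥
  Sbot : core s K = ⊥

variable {L : Subgroup G}

theorem DataC.swapUS (c : DataC σ r t u s R K L) : DataC σ r t s u R K L :=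
  have d := c.base
  ⟨⟨d.hyp, d.hr, d.ht, d.hs, d.hu, d.rt, d.rs, d.ru, d.ts, d.tu, d.us.symm, d.Rp, d.Rne, d.KR, d.faith, d.solv,
      fun p hp hd => by rcases d.supp p hp hd with h | h | h <;> simp [h], d.it, d.is', d.iu⟩,
    c.LK, c.solvL, fun p hp hd => (c.suppL p hp hd).symm, c.iLs, c.iLu, c.Tne, c.Sbot, c.Ubot⟩

/-- `L` is faithful on `O_t(K)`. -/
theorem DataC.faithT (c : DataC σ r t u s R K L) {p : ℕ} (hp : p.Prime) (hpt : p ≠ t) {a : G} (ha : a ∈ K)
    (hap : IsPEl p a) : ∃ y ∈ core t K, ¬ Commute a y := by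
  obtain ⟨hr, ht, hu, hs⟩ := c.base.pr
  by_contra hno
  push Not at hno
  have hm := mem_of_commute_cores c.base.solv (A := core t K) (fun q hq => by
    by_cases hd : q ∣ Nat.card K
    · rcases c.base.supp q hq hd with rfl | rfl | rfl
      exacts [le_rfl, c.Ubot.le.trans bot_le, c.Sbot.le.trans bot_le]
    · rw [core_eq_bot hq hd]; exact bot_le) ha hno
  exact hpt (hap.ne_of hp ht (IsPEl.of_mem (core_isPGroup t K) hm hap.1))

/-- An element of order `u` of `L` is centralised by no elementary `s`-group of order `s²`. -/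
theorem DataC.no_central (c : DataC σ r t u s R K L) {E : Subgroup G} (hEL : E ≤ L) (hE : IsE s E) {z : G}
    (hzL : z ∈ L) (hz : orderOf z = u) (hEz : ∀ e ∈ E, Commute e z) : False := by
  have d := c.base
  obtain ⟨hr, ht, hu, hs⟩ := d.pr
  have := Fact.mk hr
  have hzp : IsPEl u z := IsPEl.of_orderOf hu hz
  have hfpf : ∀ v ∈ R, Commute z v → v = 1 := by
    intro v hv hc
    by_contra hv1
    obtain ⟨e, he, he1, k, hk, hk1, hek⟩ := hE.exists_fix hs (K := R ⊓ Subgroup.centralizer {z})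
      (fun g hg => normalizer_fix_of_commute (d.KR (c.LK (hEL hg))) (hEz g hg))
      (not_dvd_card_of_isPGroup hs hr d.rs.symm (d.Rp.to_le inf_le_left))
      (fun b => hv1 (Subgroup.mem_bot.mp (b ▸ mem_fix.mpr ⟨hv, hc⟩)))
    exact d.hyp.tri' d.hs d.hu d.hr d.us.symm d.ru.symm d.rs.symm (hE.pel he he1) hzp
      (IsPEl.of_mem d.Rp hk.1 hk1) (hEz e he) (mem_fix.mp hk).2 hek
  set M := omZ t (core t K) with hM
  have hMc : ∀ a ∈ M, ∀ b ∈ M, Commute a b := fun a ha b hb => ha.2.2 b hb.1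
  have hzM : z ∈ Subgroup.normalizer (M : Set G) := omZ_normalizer (core_normalizer t K (c.LK hzL))
  have hMp : IsPGroup t M := (core_isPGroup t K).to_le fun a ha => ha.1
  have hcopz : (orderOf z).Coprime (Nat.card M) := by
    rw [hz]; exact hu.coprime_iff_not_dvd.mpr (not_dvd_card_of_isPGroup hu ht d.tu.symm hMp)
  have hzN : ∀ m ∈ M, Commute z m := by
    by_contra hno
    push Not at hno
    obtain ⟨m, hm, hne⟩ := hno
    obtain ⟨x, hx, hx1⟩ := commSub_mem (hM := hMc) (hw := hzM) hm hne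
    refine hx1 (d.faith x (core_le t K (commSub_le hx).1) fun v hv =>
      commute_of_semiregular (U := commSub M z hMc hzM) (g := z) d.Rp
        (fun y hy => d.KR (core_le t K (commSub_le hy).1)) (d.KR (c.LK hzL))
        (commSub_normalizer hzM (Commute.refl z))
        (coprime_card_of_isPGroup ht hr d.rt.symm (hMp.to_le commSub_le) d.Rp)
        (by rw [hz]; exact hu.coprime_iff_not_dvd.mpr (not_dvd_card_of_isPGroup hu hr d.ru.symm d.Rp))
        (fun n hn y hy hc => commSub_fpf hcopz hy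
          (commute_of_mem_zpowers hc (mem_zpowers_symm hu hz (pow_mem (Subgroup.mem_zpowers z) n) hn)))
        hfpf x hx v hv)
  obtain ⟨m, hm, hmo⟩ := exists_omZ ht (core_isPGroup t K) c.Tne
  obtain ⟨e, he, he1, k, hk, hk1, hek⟩ := hE.exists_fix hs (K := M)
    (fun g hg => omZ_normalizer (core_normalizer t K (c.LK (hEL hg))))
    (not_dvd_card_of_isPGroup hs ht d.ts.symm hMp)
    (fun b => ht.ne_one (by rw [← hmo, Subgroup.mem_bot.mp (show m ∈ (⊥ : Subgroup G) from b ▸ hm), orderOf_one]))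
  exact d.hyp.tri' d.hs d.hu d.ht d.us.symm d.tu.symm d.ts.symm (hE.pel he he1) hzp
    (IsPEl.of_mem hMp hk hk1) (hEz e he) (hzN k hk) hek

/-- If `O_u(L) ≠ 1` then `O_s(L) ≠ 1`. -/
theorem DataC.core_ne (c : DataC σ r t u s R K L) (hne : core u L ≠ ⊥) : core s L ≠ ⊥ := by
  intro hbot
  have d := c.base
  obtain ⟨hr, ht, hu, hs⟩ := d.pr
  obtain ⟨E, hEL, hE⟩ := d.hyp.rank s d.hs L c.iLs
  have hUp := core_isPGroup u L
  obtain ⟨w, hw, hw1, k, hk, hk1, hwk⟩ := hE.exists_fix hs (hEL.trans (core_normalizer u L))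
    (not_dvd_card_of_isPGroup hs hu d.us.symm hUp) hne
  by_cases hall : ∀ y ∈ core u L, Commute w y
  · have hm := mem_of_commute_cores c.solvL (A := core u L) (fun q hq => by
      by_cases hd : q ∣ Nat.card L
      · rcases c.suppL q hq hd with rfl | rfl
        exacts [le_rfl, hbot.le.trans bot_le]
      · rw [core_eq_bot hq hd]; exact bot_le) (hEL hw) hall
    exact d.us ((IsPEl.of_mem hUp hm hw1).ne_of hu hs (hE.pel hw hw1))
  obtain ⟨g, hg, hg1, y, hy, hgy, hwy⟩ : ∃ g ∈ E, g ≠ 1 ∧ ∃ y ∈ core u L, Commute g y ∧ ¬ Commute w y := by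
    by_contra hno
    push Not at hno
    have h := hE.gen_le hs (hEL.trans (core_normalizer u L)) (not_dvd_card_of_isPGroup hs hu d.us.symm hUp)
      (D := Subgroup.centralizer {w}) fun e he he1 v hv hev =>
        Subgroup.mem_centralizer_singleton_iff.mpr (hno e he he1 v hv hev).symm.eq
    exact hall fun v hv => (show Commute v w from Subgroup.mem_centralizer_singleton_iff.mp (h hv)).symm
  have hgw : g ∉ Subgroup.zpowers w := fun h => hwy
    (commute_of_mem_zpowers hgy (mem_zpowers_symm hs (hE.orderOf hs hw hw1) h hg1))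
  set X := core u L ⊓ Subgroup.centralizer {w} with hX
  have hXp : IsPGroup u X := hUp.to_le inf_le_left
  have hXK : X ≤ K := fun v hv => c.LK (core_le u L hv.1)
  have hgX : g ∈ Subgroup.normalizer (X : Set G) :=
    normalizer_fix_of_commute (core_normalizer u L (hEL hg)) (hE.1 g hg w hw)
  have hgo : orderOf g = s := hE.orderOf hs hg hg1
  have hfpf : ∀ v ∈ X, Commute g v → v = 1 := by
    intro v hv hc
    by_contra hv1
    obtain ⟨n, hn⟩ := (IsPEl.of_mem hXp hv hv1).exists_orderOf hu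
    exact c.no_central hEL hE (L.pow_mem (core_le u L hv.1) n) hn
      fun e he => (hE.commute_all hs hw hg hw1 hgw (mem_fix.mp hv).2 hc e he).pow_right n
  have hfix : ∀ (V : Subgroup G) (q : ℕ), q.Prime → u ≠ q → s ≠ q → IsPGroup q V →
      K ≤ Subgroup.normalizer (V : Set G) → (∃ v ∈ V, ¬ Commute k v) → ∃ v ∈ V, v ≠ 1 ∧ Commute g v := by
    intro V q hq huq hsq hVp hV hmove
    by_contra hno
    push Not at hno
    obtain ⟨v, hv, hkv⟩ := hmove
    have := Fact.mk hq
    refine hkv (commute_of_semiregular (U := X) (g := g) hVp (hXK.trans hV) (hV (c.LK (hEL hg))) hgX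
      (coprime_card_of_isPGroup hu hq huq hXp hVp)
      (by rw [hgo]; exact hs.coprime_iff_not_dvd.mpr (not_dvd_card_of_isPGroup hs hq hsq hVp))
      (fun n hn y hy hc => hfpf y hy
        (commute_of_mem_zpowers hc (mem_zpowers_symm hs hgo (pow_mem (Subgroup.mem_zpowers g) n) hn)))
      (fun y hy hc => ?_) k (mem_fix.mpr ⟨hk, hwk⟩) v hv)
    by_contra hy1
    exact hno y hy hy1 hc
  obtain ⟨v, hv, hv1, hgv⟩ := hfix R r hr d.ru.symm d.rs.symm d.Rp d.KR (by
    by_contra hno
    push Not at hno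
    exact hk1 (d.faith k (c.LK (core_le u L hk)) hno))
  obtain ⟨q, hq, hq1, hgq⟩ := hfix (core t K) t ht d.tu.symm d.ts.symm (core_isPGroup t K) (core_normalizer t K)
    (c.faithT hu d.tu.symm (c.LK (core_le u L hk)) (IsPEl.of_mem hUp hk hk1))
  have hy1 : y ≠ 1 := fun e => hwy (e ▸ Commute.one_right w)
  exact d.hyp.three s d.hs r d.hr t d.ht u d.hu d.rs.symm d.ts.symm d.us.symm d.rt d.ru d.tu g v q y
    (hE.pel hg hg1) (IsPEl.of_mem d.Rp hv hv1) (IsPEl.of_mem (core_isPGroup t K) hq hq1)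
    (IsPEl.of_mem hUp hy hy1) hgv hgq hgy

theorem DataC.lt (c : DataC σ r t u s R K L) (hU : core u L ≠ ⊥) (hS : core s L ≠ ⊥) : s < u := by
  have d := c.base
  obtain ⟨hr, ht, hu, hs⟩ := d.pr
  rcases unique_or_isE hu (core_isPGroup u L) hU with ⟨EU, hEU, hEUe⟩ | ⟨z, hzU, hz, hzu⟩
  · obtain ⟨m, hm, hmo⟩ := exists_omZ hs (core_isPGroup s L) hS
    exact (c.swapUS.no_central (hEU.trans (core_le u L)) hEUe (core_le s L hm.1) hmo
      fun e he => core_commute hu hs d.us (hEU he) hm.1).elim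
  · obtain ⟨E, hEL, hE⟩ := d.hyp.rank s d.hs L c.iLs
    obtain ⟨g, hg, hgz⟩ : ∃ g ∈ E, ¬ Commute g z := by
      by_contra hno
      push Not at hno
      exact c.no_central hEL hE (core_le u L hzU) hz hno
    exact lt_of_moves hs hu hz (conj_mem_zpowers_of_unique hz hzU (core_normalizer u L) hzu g (hEL hg))
      (n := 1) (by rw [pow_one]; exact hE.2.1 g hg) hgz

theorem DataC.absurd (c : DataC σ r t u s R K L) : False := by
  have d := c.base
  obtain ⟨hr, ht, hu, hs⟩ := d.pr
  by_cases hU : core u L = ⊥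
  · by_cases hS : core s L = ⊥
    · obtain ⟨E, hEL, hE⟩ := d.hyp.rank s d.hs L c.iLs
      obtain ⟨e, he, he'⟩ := hE.exists_notMem hs 1 (one_mem E)
      have h := mem_of_commute_cores c.solvL (A := ⊥) (fun p hp => by
        by_cases hd : p ∣ Nat.card L
        · rcases c.suppL p hp hd with rfl | rfl
          exacts [hU.le, hS.le]
        · rw [core_eq_bot hp hd]) (hEL he)
        (fun x hx => by rw [Subgroup.mem_bot.mp hx]; exact Commute.one_right e)
      exact he' (by rw [Subgroup.mem_bot.mp h]; exact one_mem _)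
    · exact c.swapUS.core_ne hS hU
  · have hS := c.core_ne hU
    have h1 := c.lt hU hS
    have h2 := c.swapUS.lt hS hU
    omega

end CfsgLib.FourPrimes
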