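import Cfsg.Agent.Lib.FourPrimes.CaseB
import Cfsg.Agent.S1475

/-!
No solvable group has four primes, pairwise joined but never three at a time.
-/

set_option autoImplicit false

namespace CfsgLib.FourPrimes

open Cfsg Subgroup
open scoped Pointwise

universe u
variable {G : Type u} [Group G] [Finite G]

theorem three_of_tri {σ : Finset ℕ} (hprime : ∀ p ∈ σ, p.Prime) (hsolv : Group.IsSolvable G)
    (htri : ∀ p ∈ σ, ∀ q ∈ σ, ∀ r ∈ σ, p ≠ q → q ≠ r → p ≠ r → ∀ a b c : G, orderOf a = p → orderOf b = q →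
      orderOf c = r → Commute a b → Commute b c → Commute a c → False) :
    ∀ p ∈ σ, ∀ q₁ ∈ σ, ∀ q₂ ∈ σ, ∀ q₃ ∈ σ, p ≠ q₁ → p ≠ q₂ → p ≠ q₃ → q₁ ≠ q₂ → q₁ ≠ q₃ → q₂ ≠ q₃ →
    ∀ a b₁ b₂ b₃ : G, IsPEl p a → IsPEl q₁ b₁ → IsPEl q₂ b₂ → IsPEl q₃ b₃ →
    Commute a b₁ → Commute a b₂ → Commute a b₃ → False := by
  intro p hp q₁ h1 q₂ h2 q₃ h3 hp1 hp2 hp3 h12 h13 h23 a b₁ b₂ b₃ ha hb1 hb2 hb3 c1 c2 c3
  set π : Finset ℕ := {q₁, q₂, q₃} with hπ
  have hπσ : ∀ q ∈ π, q ∈ σ ∧ p ≠ q := by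
    intro q hq
    simp only [hπ, Finset.mem_insert, Finset.mem_singleton] at hq
    rcases hq with rfl | rfl | rfl <;> exact ⟨‹_›, ‹_›⟩
  have hC : Group.IsSolvable (Subgroup.centralizer ({a} : Set G)) := by
    have := hsolv; infer_instance
  obtain ⟨H, hHC, hHs, hHi⟩ := CfsgLib.exists_isPiHallOf (π : Set ℕ) (M := Subgroup.centralizer {a}) hC
  have hH : Group.IsSolvable H := by have := hsolv; infer_instance
  have hdvd : ∀ q ∈ π, ∀ b : G, IsPEl q b → Commute a b → q ∣ Nat.card H := by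
    intro q hq b hb hc
    have hqp := hprime q (hπσ q hq).1
    obtain ⟨n, hn⟩ := hb.exists_orderOf hqp
    have hd : q ∣ Nat.card (Subgroup.centralizer ({a} : Set G)) := by
      rw [← hn]
      exact Subgroup.orderOf_dvd_natCard _ (pow_mem (Subgroup.mem_centralizer_singleton_iff.mpr hc.symm.eq) n)
    rw [← CfsgLib.card_mul_relIndex hHC] at hd
    exact (hqp.dvd_mul.mp hd).resolve_right (hHi q hqp (by simpa using hq))
  have hpp : ∀ g : H, IsPrimePow (orderOf g) ∨ g = 1 := by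
    intro g
    by_contra hno
    push Not at hno
    have hne : orderOf g ≠ 1 := fun e => hno.2 (orderOf_eq_one_iff.mp e)
    obtain ⟨q, hq, hqd⟩ := Nat.exists_prime_and_dvd hne
    obtain ⟨q', hq', hqd', hqq⟩ : ∃ q', q'.Prime ∧ q' ∣ orderOf g ∧ q' ≠ q := by
      by_contra h
      push Not at h
      exact hno.1 ((isPrimePow_iff_unique_prime_dvd).mpr ⟨q, ⟨hq, hqd⟩, fun r hr => h r hr.1 hr.2⟩)
    have hmem : ∀ r : ℕ, r.Prime → r ∣ orderOf g → r ∈ π := fun r hr hd =>
      Finset.mem_coe.mp (hHs r hr (hd.trans (orderOf_dvd_natCard g)))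
    have hgo : orderOf (g : G) = orderOf g := Subgroup.orderOf_coe g
    obtain ⟨k, hk⟩ := ha.exists_orderOf (hprime p hp)
    have hga : Commute a (g : G) := (Subgroup.mem_centralizer_singleton_iff.mp (hHC g.2)).symm
    exact htri p hp q (hπσ q (hmem q hq hqd)).1 q' (hπσ q' (hmem q' hq' hqd')).1
      (hπσ q (hmem q hq hqd)).2 hqq.symm (hπσ q' (hmem q' hq' hqd')).2
      (a ^ k) ((g : G) ^ (orderOf g / q)) ((g : G) ^ (orderOf g / q')) hk
      (by rw [← hgo]; exact orderOf_pow_orderOf_div (orderOf_pos _).ne' (hgo ▸ hqd))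
      (by rw [← hgo]; exact orderOf_pow_orderOf_div (orderOf_pos _).ne' (hgo ▸ hqd'))
      (hga.pow_pow _ _) ((Commute.refl (g : G)).pow_pow _ _) (hga.pow_pow _ _)
  have := hH
  have hcard := Cfsg.Agent.S1475.result hpp
  have hsub : π ⊆ (Nat.card H).primeFactors := by
    intro q hq
    refine Nat.mem_primeFactors.mpr ⟨hprime q (hπσ q hq).1, ?_, Nat.card_pos.ne'⟩
    simp only [hπ, Finset.mem_insert, Finset.mem_singleton] at hq
    rcases hq with rfl | rfl | rfl
    · exact hdvd q (by simp [hπ]) b₁ hb1 c1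
    · exact hdvd q (by simp [hπ]) b₂ hb2 c2
    · exact hdvd q (by simp [hπ]) b₃ hb3 c3
  have h3' := (Finset.card_le_card hsub).trans hcard
  rw [hπ, Finset.card_insert_of_notMem (by simp [h12, h13]), Finset.card_pair h23] at h3'
  omega

theorem hyp_of {σ : Finset ℕ} (hσ : σ.card = 4) (hprime : ∀ p ∈ σ, p.Prime) (hsolv : Group.IsSolvable G)
    (hedge : ∀ p ∈ σ, ∀ q ∈ σ, p ≠ q → ∃ a b : G, orderOf a = p ∧ orderOf b = q ∧ Commute a b)
    (htri : ∀ p ∈ σ, ∀ q ∈ σ, ∀ r ∈ σ, p ≠ q → q ≠ r → p ≠ r → ∀ a b c : G, orderOf a = p → orderOf b = q →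
      orderOf c = r → Commute a b → Commute b c → Commute a c → False) : Hyp G σ := by
  refine ⟨hprime, htri, three_of_tri hprime hsolv htri, ?_⟩
  intro p hp H hH
  have hpp := hprime p hp
  have := Fact.mk hpp
  obtain ⟨q₁, q₂, q₃, h12, h13, h23, herase⟩ :=
    Finset.card_eq_three.mp (show (σ.erase p).card = 3 by rw [Finset.card_erase_of_mem hp, hσ])
  have hq : ∀ q ∈ ({q₁, q₂, q₃} : Finset ℕ), q ∈ σ ∧ p ≠ q := fun q hq => by
    rw [← herase, Finset.mem_erase] at hq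
    exact ⟨hq.2, hq.1.symm⟩
  obtain ⟨P, hPH, hP, hPi, -⟩ := exists_sylowIn hpp H
  have hPidx := not_dvd_index_of hpp hPH hPi hH
  let S : Sylow p G := hP.toSylow hPidx
  have hPne : P ≠ ⊥ := by
    intro e
    obtain ⟨a, -, ha, -, -⟩ := hedge p hp q₁ (hq q₁ (by simp)).1 (hq q₁ (by simp)).2
    apply hPidx
    rw [e, Subgroup.index_bot, ← ha]
    exact orderOf_dvd_natCard a
  rcases unique_or_isE hpp hP hPne with ⟨E, hEP, hE⟩ | ⟨z, -, hz, hzu⟩
  · exact ⟨E, hEP.trans hPH, hE⟩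
  exfalso
  have key : ∀ q ∈ ({q₁, q₂, q₃} : Finset ℕ), ∃ b : G, IsPEl q b ∧ Commute z b := by
    intro q hqm
    obtain ⟨a, b, ha, hb, hab⟩ := hedge p hp q (hq q hqm).1 (hq q hqm).2
    have hap : IsPGroup p (Subgroup.zpowers a) := IsPGroup.of_card (n := 1) (by rw [Nat.card_zpowers, ha, pow_one])
    obtain ⟨Q, hQ⟩ := hap.exists_le_sylow
    obtain ⟨g, hg⟩ := MulAction.exists_smul_eq G Q S
    have hgP : g * a * g⁻¹ ∈ P := by
      have h : g * a * g⁻¹ ∈ ((g • Q : Sylow p G) : Subgroup G) := by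
        rw [Sylow.coe_subgroup_smul]
        exact Subgroup.smul_mem_pointwise_smul a (MulAut.conj g) _ (hQ (Subgroup.mem_zpowers a))
      rw [hg] at h
      exact h
    have hmem := hzu _ hgP (by rw [conj_pow, ← ha, pow_orderOf_eq_one, mul_one, mul_inv_cancel])
    refine ⟨g * b * g⁻¹, IsPEl.of_orderOf (hprime q (hq q hqm).1) ?_, commute_of_mem_zpowers (commute_conj hab)
      (mem_zpowers_symm hpp hz hmem fun e => hpp.ne_one ?_)⟩
    · rw [← hb]; exact orderOf_injective (MulAut.conj g).toMonoidHom (MulAut.conj g).injective b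
    · rw [← ha, ← orderOf_injective (MulAut.conj g).toMonoidHom (MulAut.conj g).injective a]
      exact orderOf_eq_one_iff.mpr e
  obtain ⟨b₁, hb₁, c₁⟩ := key q₁ (by simp)
  obtain ⟨b₂, hb₂, c₂⟩ := key q₂ (by simp)
  obtain ⟨b₃, hb₃, c₃⟩ := key q₃ (by simp)
  exact three_of_tri hprime hsolv htri p hp q₁ (hq q₁ (by simp)).1 q₂ (hq q₂ (by simp)).1 q₃ (hq q₃ (by simp)).1
    (hq q₁ (by simp)).2 (hq q₂ (by simp)).2 (hq q₃ (by simp)).2 h12 h13 h23 z b₁ b₂ b₃
    (IsPEl.of_orderOf hpp hz) hb₁ hb₂ hb₃ c₁ c₂ c₃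

/-- Three non-trivial cores give a forbidden triple. -/
theorem Hyp.cores_three {σ : Finset ℕ} (h : Hyp G σ) {p q r : ℕ} (hp : p ∈ σ) (hq : q ∈ σ) (hr : r ∈ σ)
    (h1 : p ≠ q) (h2 : q ≠ r) (h3 : p ≠ r) {K : Subgroup G}
    (hP : core p K ≠ ⊥) (hQ : core q K ≠ ⊥) (hR : core r K ≠ ⊥) : False := by
  obtain ⟨a, ha, ha1⟩ := (Subgroup.bot_or_exists_ne_one _).resolve_left hP
  obtain ⟨b, hb, hb1⟩ := (Subgroup.bot_or_exists_ne_one _).resolve_left hQ
  obtain ⟨c, hc, hc1⟩ := (Subgroup.bot_or_exists_ne_one _).resolve_left hR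
  exact h.tri' hp hq hr h1 h2 h3 (IsPEl.of_mem (core_isPGroup p K) ha ha1)
    (IsPEl.of_mem (core_isPGroup q K) hb hb1) (IsPEl.of_mem (core_isPGroup r K) hc hc1)
    (core_commute (h.prime p hp) (h.prime q hq) h1 ha hb) (core_commute (h.prime q hq) (h.prime r hr) h2 hb hc)
    (core_commute (h.prime p hp) (h.prime r hr) h3 ha hc)

theorem mem_erase_split {σ : Finset ℕ} {a : ℕ} (ha : a ∈ σ) {n : ℕ} (hn : σ.card = n + 1) :
    (σ.erase a).card = n := by rw [Finset.card_erase_of_mem ha, hn]; omega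

theorem no_config {σ : Finset ℕ} (hσ : σ.card = 4) (hsolv : Group.IsSolvable G)
    (hsupp : ∀ p : ℕ, p.Prime → p ∣ Nat.card G → p ∈ σ) (h : Hyp G σ) : False := by
  classical
  have htop : Group.IsSolvable (⊤ : Subgroup G) := by have := hsolv; infer_instance
  have hsolv' : ∀ K : Subgroup G, Group.IsSolvable K := fun K => by have := hsolv; infer_instance
  have hnorm : ∀ (p : ℕ), (core p (⊤ : Subgroup G)).Normal := fun p =>
    Subgroup.normalizer_eq_top_iff.mp (top_le_iff.mp (core_normalizer p ⊤))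
  have hcoresTop : ∀ (A : Subgroup G), (∀ q ∈ σ, core q (⊤ : Subgroup G) ≤ A) →
      ∀ p : ℕ, p.Prime → core p (⊤ : Subgroup G) ≤ A := fun A hA p hp => by
    by_cases hd : p ∣ Nat.card G
    · exact hA p (hsupp p hp hd)
    · rw [core_eq_bot hp (by rwa [Subgroup.card_top])]; exact bot_le
  obtain ⟨r, hrσ, hR⟩ : ∃ r ∈ σ, core r (⊤ : Subgroup G) ≠ ⊥ := by
    by_contra hno
    push Not at hno
    obtain ⟨p, hp⟩ := Finset.card_pos.mp (by rw [hσ]; norm_num : 0 < σ.card)
    obtain ⟨E, -, hE⟩ := h.rank p hp ⊤ (by rw [Subgroup.index_top]; exact (h.prime p hp).not_dvd_one)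
    obtain ⟨e, -, he'⟩ := hE.exists_notMem (h.prime p hp) 1 (one_mem E)
    have hm := mem_of_commute_cores htop (A := ⊥) (hcoresTop ⊥ fun q hq => (hno q hq).le) (Subgroup.mem_top e)
      (fun x hx => by rw [Subgroup.mem_bot.mp hx]; exact Commute.one_right e)
    exact he' (by rw [Subgroup.mem_bot.mp hm]; exact one_mem _)
  have hrp := h.prime r hrσ
  have hidx : ∀ {π : Set ℕ} {L : Subgroup G}, IsPiHallOf π L ⊤ → ∀ p : ℕ, p.Prime → p ∈ π → ¬ p ∣ L.index :=
    fun hL p hp hpπ => by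
      have := hL.2.2 p hp hpπ
      rwa [Subgroup.relIndex_top_right] at this
  by_cases htwo : ∃ t ∈ σ, t ≠ r ∧ core t (⊤ : Subgroup G) ≠ ⊥
  · obtain ⟨t, htσ, htr, hT⟩ := htwo
    obtain ⟨u, s, hus, he⟩ := Finset.card_eq_two.mp
      (mem_erase_split (σ := σ.erase r) (Finset.mem_erase.mpr ⟨htr, htσ⟩) (mem_erase_split hrσ hσ))
    have hmem : ∀ x, x ∈ σ → x = r ∨ x = t ∨ x = u ∨ x = s := fun x hx => by
      by_contra hno
      push Not at hno
      have : x ∈ (σ.erase r).erase t := Finset.mem_erase.mpr ⟨hno.2.1, Finset.mem_erase.mpr ⟨hno.1, hx⟩⟩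
      rw [he, Finset.mem_insert, Finset.mem_singleton] at this
      tauto
    have hu : u ∈ (σ.erase r).erase t := by rw [he]; simp
    have hs : s ∈ (σ.erase r).erase t := by rw [he]; simp
    simp only [Finset.mem_erase] at hu hs
    obtain ⟨hut, hur, huσ⟩ := hu
    obtain ⟨hst, hsr, hsσ⟩ := hs
    have hubot : core u (⊤ : Subgroup G) = ⊥ := by
      by_contra hne; exact h.cores_three hrσ htσ huσ htr.symm hut.symm hur.symm hR hT hne
    have hsbot : core s (⊤ : Subgroup G) = ⊥ := by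
      by_contra hne; exact h.cores_three hrσ htσ hsσ htr.symm hst.symm hsr.symm hR hT hne
    obtain ⟨L, hL⟩ := CfsgLib.exists_isPiHallOf ({u, s} : Set ℕ) (M := (⊤ : Subgroup G)) htop
    have hLsupp : ∀ p : ℕ, p.Prime → p ∣ Nat.card L → p = u ∨ p = s := fun p hp hd => hL.2.1 p hp hd
    have := hnorm r
    have := hnorm t
    refine DataA.absurd (r := r) (t := t) (u := u) (s := s) (R := core r ⊤) (T := core t ⊤) (L := L)
      ⟨h, hrσ, htσ, huσ, hsσ, htr.symm, hur.symm, hsr.symm, hut.symm, hst.symm, hus, core_isPGroup r ⊤,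
        core_isPGroup t ⊤, hR, hT, le_top.trans (core_normalizer r ⊤), le_top.trans (core_normalizer t ⊤),
        fun x hx y hy => core_commute hrp (h.prime t htσ) htr.symm hx hy, ?_, hsolv' L, hLsupp,
        hidx hL u (h.prime u huσ) (Or.inl rfl), hidx hL s (h.prime s hsσ) (Or.inr rfl)⟩
    intro l hl hlR hlT
    have hle : core r (⊤ : Subgroup G) ⊔ core t ⊤ ≤ Subgroup.centralizer {l} := sup_le
      (fun x hx => Subgroup.mem_centralizer_singleton_iff.mpr (hlR x hx).symm.eq)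
      (fun x hx => Subgroup.mem_centralizer_singleton_iff.mpr (hlT x hx).symm.eq)
    have hm := mem_of_commute_cores htop (A := core r (⊤ : Subgroup G) ⊔ core t ⊤) (hcoresTop _ fun q hq => by
        rcases hmem q hq with rfl | rfl | rfl | rfl
        exacts [le_sup_left, le_sup_right, hubot.le.trans bot_le, hsbot.le.trans bot_le]) (Subgroup.mem_top l)
      fun x hx => (show Commute x l from Subgroup.mem_centralizer_singleton_iff.mp (hle hx)).symm
    by_contra hl1
    obtain ⟨q, hq, hqd⟩ := Nat.exists_prime_and_dvd (fun e => hl1 (orderOf_eq_one_iff.mp e))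
    have hd := (Subgroup.orderOf_dvd_natCard _ hm).trans (CfsgLib.card_sup_dvd_mul (core r (⊤ : Subgroup G)) (core t ⊤))
    rcases hq.dvd_mul.mp (hqd.trans hd) with e | e
    · refine not_dvd_card_of_isPGroup hq hrp ?_ (core_isPGroup r ⊤) e
      rcases hLsupp q hq (hqd.trans (Subgroup.orderOf_dvd_natCard L hl)) with rfl | rfl
      exacts [hur, hsr]
    · refine not_dvd_card_of_isPGroup hq (h.prime t htσ) ?_ (core_isPGroup t ⊤) e
      rcases hLsupp q hq (hqd.trans (Subgroup.orderOf_dvd_natCard L hl)) with rfl | rfl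
      exacts [hut, hst]
  push Not at htwo
  obtain ⟨K, hK⟩ := CfsgLib.exists_isPiHallOf ((σ.erase r : Finset ℕ) : Set ℕ) (M := (⊤ : Subgroup G)) htop
  have hKsupp : ∀ p : ℕ, p.Prime → p ∣ Nat.card K → p ∈ σ.erase r := fun p hp hd => Finset.mem_coe.mp (hK.2.1 p hp hd)
  have hKi : ∀ p ∈ σ.erase r, ¬ p ∣ K.index := fun p hp =>
    hidx hK p (h.prime p (Finset.mem_of_mem_erase hp)) (Finset.mem_coe.mpr hp)
  have hfaith : ∀ k ∈ K, (∀ x ∈ core r (⊤ : Subgroup G), Commute k x) → k = 1 := by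
    intro k hk hc
    have hm := mem_of_commute_cores htop (A := core r (⊤ : Subgroup G)) (hcoresTop _ fun q hq => by
      rcases eq_or_ne q r with rfl | hne
      · exact le_rfl
      · rw [htwo q hq hne]; exact bot_le) (Subgroup.mem_top k) hc
    by_contra hk1
    obtain ⟨q, hq, hqd⟩ := Nat.exists_prime_and_dvd (fun e => hk1 (orderOf_eq_one_iff.mp e))
    have hqe := hKsupp q hq (hqd.trans (Subgroup.orderOf_dvd_natCard K hk))
    exact not_dvd_card_of_isPGroup hq hrp (Finset.ne_of_mem_erase hqe) (core_isPGroup r ⊤)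
      (hqd.trans (Subgroup.orderOf_dvd_natCard _ hm))
  have data : ∀ t u s : ℕ, t ≠ u → t ≠ s → u ≠ s → t ∈ σ.erase r → u ∈ σ.erase r → s ∈ σ.erase r →
      DataB σ r t u s (core r ⊤) K ∧ ∀ x ∈ σ.erase r, x = t ∨ x = u ∨ x = s := by
    intro t u s htu hts hus ht hu hs
    have he : ({t, u, s} : Finset ℕ) = σ.erase r := Finset.eq_of_subset_of_card_le
      (by simp [Finset.insert_subset_iff, ht, hu, hs]) (by
        rw [mem_erase_split hrσ hσ, Finset.card_insert_of_notMem (by simp [htu, hts]), Finset.card_pair hus])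
    have hx : ∀ x ∈ σ.erase r, x = t ∨ x = u ∨ x = s := fun x hx => by
      rw [← he] at hx; simpa using hx
    rw [Finset.mem_erase] at ht hu hs
    exact ⟨⟨h, hrσ, ht.2, hu.2, hs.2, ht.1.symm, hu.1.symm, hs.1.symm, htu, hts, hus, core_isPGroup r ⊤, hR,
      le_top.trans (core_normalizer r ⊤), hfaith, hsolv' K, fun p hp hd => hx p (hKsupp p hp hd),
      hKi t (Finset.mem_erase.mpr ht), hKi u (Finset.mem_erase.mpr hu), hKi s (Finset.mem_erase.mpr hs)⟩, hx⟩
  obtain ⟨t, ht, hT⟩ : ∃ t ∈ σ.erase r, core t K ≠ ⊥ := by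
    by_contra hno
    push Not at hno
    obtain ⟨p, hp⟩ := Finset.card_pos.mp (by rw [mem_erase_split hrσ hσ]; norm_num : 0 < (σ.erase r).card)
    have hpp := h.prime p (Finset.mem_of_mem_erase hp)
    obtain ⟨E, hEK, hE⟩ := h.rank p (Finset.mem_of_mem_erase hp) K (hKi p hp)
    obtain ⟨e, he, he'⟩ := hE.exists_notMem hpp 1 (one_mem E)
    have hm := mem_of_commute_cores (hsolv' K) (A := ⊥) (fun q hq => by
      by_cases hd : q ∣ Nat.card K
      · exact (hno q (hKsupp q hq hd)).le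
      · rw [core_eq_bot hq hd]) (hEK he) (fun x hx => by rw [Subgroup.mem_bot.mp hx]; exact Commute.one_right e)
    exact he' (by rw [Subgroup.mem_bot.mp hm]; exact one_mem _)
  obtain ⟨u, s, hus, he⟩ := Finset.card_eq_two.mp (mem_erase_split ht (mem_erase_split hrσ hσ))
  have hu : u ∈ (σ.erase r).erase t := by rw [he]; simp
  have hs : s ∈ (σ.erase r).erase t := by rw [he]; simp
  rw [Finset.mem_erase] at hu hs
  have htu := hu.1.symm
  have hts := hs.1.symm
  by_cases hU : core u K = ⊥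
  · by_cases hS : core s K = ⊥
    · obtain ⟨L, hLK, hLs, hLi⟩ := CfsgLib.exists_isPiHallOf ({u, s} : Set ℕ) (M := K) (hsolv' K)
      have hup := h.prime u (Finset.mem_of_mem_erase hu.2)
      have hsp := h.prime s (Finset.mem_of_mem_erase hs.2)
      exact DataC.absurd (L := L) ⟨(data t u s htu hts hus ht hu.2 hs.2).1, hLK, hsolv' L,
        fun p hp hd => hLs p hp hd,
        not_dvd_index_of hup hLK (hLi u hup (Or.inl rfl)) (hKi u hu.2),
        not_dvd_index_of hsp hLK (hLi s hsp (Or.inr rfl)) (hKi s hs.2), hT, hU, hS⟩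
    · exact (data t s u hts htu hus.symm ht hs.2 hu.2).1.absurd_two hT hS hU
  · by_cases hS : core s K = ⊥
    · exact (data t u s htu hts hus ht hu.2 hs.2).1.absurd_two hT hU hS
    · exact h.cores_three (Finset.mem_of_mem_erase ht) (Finset.mem_of_mem_erase hu.2)
        (Finset.mem_of_mem_erase hs.2) htu hus hts hT hU hS

end CfsgLib.FourPrimes
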